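import Cfsg.Agent.Lib.CentreIndexFour.Simple
import Cfsg.Agent.S0949
import Mathlib.GroupTheory.Exponent
import Mathlib.GroupTheory.SpecificGroups.Dihedral

/-!
# Simple groups with an abelian Sylow 2-subgroup `B` whose normalizer fixes a subgroup of index four

Such a `B` is a four group.
-/

set_option autoImplicit false
set_option linter.unusedSectionVars false
set_option linter.style.haveILetI false

namespace Cfsg.Lib.CentreIndexFour

open Subgroup
open scoped IsMulCommutative

universe v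

variable {G : Type v} [Group G] [Finite G] [IsSimpleGroup G]

/-- The automorphisms of `B` induced by its normalizer. -/
def autB (B : Sylow 2 G) : Subgroup (MulAut (B : Subgroup G)) :=
  ((B : Subgroup G).normalizerMonoidHom).range

theorem autB_apply {B : Sylow 2 G} {n : G} (hn : n ∈ normalizer ((B : Subgroup G) : Set G))
    (x : (B : Subgroup G)) :
    ((((B : Subgroup G).normalizerMonoidHom ⟨n, hn⟩) x : (B : Subgroup G)) : G) = n * x * n⁻¹ := rfl

theorem odd_autB (B : Sylow 2 G) [IsMulCommutative (B : Subgroup G)] : Odd (Nat.card (autB B)) := by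
  haveI : Fact (Nat.Prime 2) := ⟨Nat.prime_two⟩
  have hle : (B : Subgroup G).subgroupOf (normalizer ((B : Subgroup G) : Set G)) ≤
      ((B : Subgroup G).normalizerMonoidHom).ker := fun n hn => by
    rw [normalizerMonoidHom_ker, mem_subgroupOf]
    exact le_centralizer _ hn
  have h1 : Nat.card (autB B) = ((B : Subgroup G).normalizerMonoidHom).ker.index :=
    (index_ker _).symm
  have h2 : ¬ 2 ∣ ((B : Subgroup G).subgroupOf (normalizer ((B : Subgroup G) : Set G))).index :=
    (B.subtype le_normalizer).not_dvd_index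
  rw [h1, Nat.odd_iff]
  have h3 := index_dvd_of_le hle
  have h4 : ¬ 2 ∣ ((B : Subgroup G).normalizerMonoidHom).ker.index := fun h => h2 (h.trans h3)
  omega

/-- `X` is invariant under the automorphisms induced by the normalizer. -/
def Inv' (B : Sylow 2 G) (X : Subgroup (B : Subgroup G)) : Prop := ∀ f ∈ autB B, ∀ x ∈ X, f x ∈ X

variable (hna : ¬ IsMulCommutative G) (hO : Cfsg.oddCore G = ⊥) (B : Sylow 2 G)
  [IsMulCommutative (B : Subgroup G)]

theorem closed_of_inv {X : Subgroup (B : Subgroup G)} (hX : Inv' B X) :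
    Cfsg.IsStronglyClosed (X.map (B : Subgroup G).subtype) (B : Subgroup G) := by
  haveI : Fact (Nat.Prime 2) := ⟨Nat.prime_two⟩
  refine ⟨map_subtype_le _, ?_⟩
  rintro _ ⟨x, hx, rfl⟩ g hg
  obtain ⟨n, hn, he⟩ := Fusion.exists_normalizer_conj_of_abelian B x.2 hg
  exact ⟨_, hX _ ⟨⟨n, hn⟩, rfl⟩ x hx, he⟩

include hna hO

theorem inv_meet {X Y : Subgroup (B : Subgroup G)} (hX : Inv' B X) (hY : Inv' B Y) (hXY : X ⊓ Y = ⊥)
    (hne : X ≠ ⊥) : Y = ⊥ := by
  have h1 := closed_eq_bot hna hO B (closed_of_inv B hX) (closed_of_inv B hY)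
    (by rintro _ ⟨a, -, rfl⟩ _ ⟨b, -, rfl⟩; exact congrArg Subtype.val (mul_comm a b))
    (by rw [← Subgroup.map_inf _ _ _ Subtype.val_injective, hXY, Subgroup.map_bot])
    (fun h => hne ((map_eq_bot_iff_of_injective _ (subtype_injective _)).1 h))
  exact (map_eq_bot_iff_of_injective _ (subtype_injective _)).1 h1

theorem fixed_eq_one {b : (B : Subgroup G)} (hb : ∀ f ∈ autB B, f b = b) : b = 1 := by
  haveI : Fact (Nat.Prime 2) := ⟨Nat.prime_two⟩
  by_contra hne
  obtain ⟨k, hk⟩ := B.2 b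
  have h2 : 2 ∣ orderOf b := by
    obtain ⟨j, -, hj⟩ := (Nat.dvd_prime_pow Nat.prime_two).1 (orderOf_dvd_of_pow_eq_one hk)
    rcases j with _ | j
    · exact absurd (orderOf_eq_one_iff.1 (by simpa using hj)) hne
    · exact hj ▸ dvd_pow_self 2 j.succ_ne_zero
  set c := b ^ (orderOf b / 2) with hc
  have hco : orderOf c = 2 := orderOf_pow_orderOf_div (orderOf_pos b).ne' h2
  have hcG : orderOf (c : G) = 2 := by rw [orderOf_coe, hco]
  have hiso : Cfsg.IsIsolatedInvolution (c : G) := Invol.isolated_of_sylow B hcG fun g hg => by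
    obtain ⟨n, hn, he⟩ := Fusion.exists_normalizer_conj_of_abelian B c.2 hg
    rw [← he, ← autB_apply hn c, hc, map_pow, hb _ ⟨⟨n, hn⟩, rfl⟩]
  have h1 := ZStar.mem_center_of_isolated hO hiso
  rw [center_eq_bot_of_nonabelian hna, mem_bot] at h1
  exact Invol.ne_one hcG h1

theorem eq_one_of_trivial_mod {W : Subgroup (B : Subgroup G)} (hW : Inv' B W) (hWne : W ≠ ⊤)
    {h₀ : MulAut (B : Subgroup G)} (h₀A : h₀ ∈ autB B) (h₀W : ∀ b, h₀ b * b⁻¹ ∈ W) : h₀ = 1 := by
  classical
  let H : Subgroup (MulAut (B : Subgroup G)) :=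
    { carrier := {f | f ∈ autB B ∧ ∀ b, f b * b⁻¹ ∈ W}
      one_mem' := ⟨one_mem _, fun b => by simp⟩
      mul_mem' := fun {f g} hf hg => ⟨mul_mem hf.1 hg.1, fun b => by
        have := mul_mem (hf.2 (g b)) (hg.2 b)
        rwa [mul_assoc, inv_mul_cancel_left] at this⟩
      inv_mem' := fun {f} hf => ⟨inv_mem hf.1, fun b => by
        have := inv_mem (hf.2 (f⁻¹ b))
        rwa [mul_inv_rev, inv_inv, MulAut.apply_inv_self] at this⟩ }
  have hconj : ∀ k ∈ autB B, ∀ f ∈ H, k * f * k⁻¹ ∈ H := fun k hk f hf =>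
    ⟨mul_mem (mul_mem hk hf.1) (inv_mem hk), fun b => by
      have := hW k hk _ (hf.2 (k⁻¹ b))
      rwa [map_mul, map_inv, MulAut.apply_inv_self] at this⟩
  haveI : Fintype H := Fintype.ofFinite H
  let π : (B : Subgroup G) →* (B : Subgroup G) :=
    MonoidHom.mk' (fun b => ∏ f : H, (f : MulAut (B : Subgroup G)) b)
      (fun a b => by simp only [map_mul, Finset.prod_mul_distrib])
  have hπ : ∀ b, π b = ∏ f : H, (f : MulAut (B : Subgroup G)) b := fun _ => rfl
  have hfix : ∀ f : H, ∀ b, (f : MulAut (B : Subgroup G)) (π b) = π b := fun f b => by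
    rw [hπ, map_prod]
    exact Fintype.prod_equiv (Equiv.mulLeft f) _ _ fun g => rfl
  have hinvar : ∀ f : H, ∀ b, π ((f : MulAut (B : Subgroup G)) b) = π b := fun f b => by
    rw [hπ, hπ]
    exact Fintype.prod_equiv (Equiv.mulRight f) _ _ fun g => rfl
  have hcommute : ∀ k ∈ autB B, ∀ b, k (π b) = π (k b) := fun k hk b => by
    rw [hπ, hπ, map_prod]
    let e : H ≃ H :=
      { toFun := fun f => ⟨k * f.1 * k⁻¹, hconj k hk f.1 f.2⟩
        invFun := fun f => ⟨k⁻¹ * f.1 * k, by simpa using hconj k⁻¹ (inv_mem hk) f.1 f.2⟩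
        left_inv := fun f => Subtype.ext (by simp [mul_assoc])
        right_inv := fun f => Subtype.ext (by simp [mul_assoc]) }
    exact Fintype.prod_equiv e _ _ fun g => by simp [e]
  let C : Subgroup (B : Subgroup G) :=
    { carrier := {b | ∀ f : H, (f : MulAut (B : Subgroup G)) b = b}
      one_mem' := fun f => map_one _
      mul_mem' := fun ha hb f => by rw [map_mul, ha f, hb f]
      inv_mem' := fun ha f => by rw [map_inv, ha f] }
  have hC : Inv' B C := fun k hk b hb f => by
    have h1 := hb ⟨k⁻¹ * f.1 * k, by simpa using hconj k⁻¹ (inv_mem hk) f.1 f.2⟩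
    have h2 := congrArg k h1
    simpa using h2
  have hK : Inv' B π.ker := fun k hk b hb => by
    rw [MonoidHom.mem_ker, ← hcommute k hk, MonoidHom.mem_ker.1 hb, map_one]
  have hodd : Odd (Nat.card H) :=
    (odd_autB B).of_dvd_nat (card_dvd_of_le fun f hf => hf.1)
  have hpow : ∀ b : (B : Subgroup G), b ^ Nat.card H = 1 → b = 1 := fun b hb => by
    obtain ⟨k, hk⟩ := B.2 b
    refine orderOf_eq_one_iff.1 (Nat.eq_one_of_dvd_coprimes ?_ (orderOf_dvd_of_pow_eq_one hk)
      (orderOf_dvd_of_pow_eq_one hb))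
    exact (Nat.coprime_two_left.2 hodd).pow_left k
  have hdis : C ⊓ π.ker = ⊥ := (eq_bot_iff_forall _).2 fun b hb => hpow b (by
    have h1 := MonoidHom.mem_ker.1 hb.2
    rw [hπ, Finset.prod_congr rfl (fun f _ => hb.1 f), Finset.prod_const, Finset.card_univ,
      ← Nat.card_eq_fintype_card] at h1
    exact h1)
  obtain ⟨b, hb⟩ : ∃ b, b ∉ W := by
    by_contra! hh; exact hWne (eq_top_iff.2 fun x _ => hh x)
  have hCne : C ≠ ⊥ := fun hbot => by
    have h1 : π b = 1 := mem_bot.1 (hbot ▸ (fun f => hfix f b : π b ∈ C))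
    have h2 : π b * (b ^ Nat.card H)⁻¹ ∈ W := by
      have he : π b * (b ^ Nat.card H)⁻¹ = ∏ f : H, ((f : MulAut (B : Subgroup G)) b * b⁻¹) := by
        rw [Finset.prod_mul_distrib, ← hπ, Finset.prod_const, Finset.card_univ, inv_pow,
          ← Nat.card_eq_fintype_card]
      rw [he]
      exact prod_mem fun f _ => f.2.2 b
    rw [h1, one_mul, inv_mem_iff] at h2
    obtain ⟨k, hk⟩ := B.2 b
    have hcop : (orderOf b).Coprime (Nat.card H) :=
      Nat.Coprime.coprime_dvd_left (orderOf_dvd_of_pow_eq_one hk) ((Nat.coprime_two_left.2 hodd).pow_left k)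
    obtain ⟨j, hj⟩ := exists_pow_eq_self_of_coprime hcop.symm
    exact hb (hj ▸ pow_mem h2 j)
  have hker := inv_meet hna hO B hC hK hdis hCne
  refine MulEquiv.ext fun x => ?_
  have h1 : h₀ x * x⁻¹ ∈ π.ker := by
    rw [MonoidHom.mem_ker, map_mul, map_inv, hinvar ⟨h₀, h₀A, h₀W⟩, mul_inv_cancel]
  rw [hker, mem_bot, mul_inv_eq_one] at h1
  exact h1

/-- The group of induced automorphisms is generated by one element `k` of order three. -/
theorem exists_three {W : Subgroup (B : Subgroup G)} (hW : Inv' B W) (hidx : W.index = 4) :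
    ∃ k ∈ autB B, (∀ b, k (k (k b)) = b) ∧ ∀ f ∈ autB B, ∀ b, f b = b ∨ f b = k b ∨ f b = k (k b) := by
  classical
  haveI : Fintype ((B : Subgroup G) ⧸ W) := Fintype.ofFinite _
  have hWt : W ≠ ⊤ := fun h => by rw [h, index_top] at hidx; exact absurd hidx (by norm_num)
  let e : autB B → ((B : Subgroup G) ⧸ W) ≃* ((B : Subgroup G) ⧸ W) := fun f =>
    QuotientGroup.congr W W f.1 (le_antisymm (by rintro _ ⟨x, hx, rfl⟩; exact hW f.1 f.2 x hx)
      (fun x hx => ⟨f.1⁻¹ x, hW _ (inv_mem f.2) x hx, MulAut.apply_inv_self _ _ x⟩))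
  have he : ∀ f b, e f (QuotientGroup.mk b) = QuotientGroup.mk (f.1 b) := fun f b => rfl
  let ψ : autB B →* Equiv.Perm {q : (B : Subgroup G) ⧸ W // q ≠ 1} := MonoidHom.mk'
    (fun f => (e f).toEquiv.subtypeEquiv fun q => by
      show q ≠ 1 ↔ e f q ≠ 1
      rw [ne_eq, ne_eq, MulEquiv.map_eq_one_iff])
    (fun f g => Equiv.ext fun q => Subtype.ext (by
      obtain ⟨b, hb⟩ := QuotientGroup.mk_surjective q.1
      show e (f * g) q.1 = e f (e g q.1)
      rw [← hb, he, he, he]
      rfl))
  have hψ : Function.Injective ψ := (injective_iff_map_eq_one ψ).2 fun f hf =>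
    Subtype.ext (eq_one_of_trivial_mod hna hO B hW hWt f.2 fun b => by
      by_cases hb : b ∈ W
      · exact mul_mem (hW f.1 f.2 b hb) (inv_mem hb)
      · have h1 := congrArg (fun σ : Equiv.Perm _ => (σ ⟨(b : (B : Subgroup G) ⧸ W),
          fun h => hb ((QuotientGroup.eq_one_iff b).1 h)⟩).1) hf
        have h2 : e f (b : (B : Subgroup G) ⧸ W) = (b : (B : Subgroup G) ⧸ W) := h1
        rw [he, eq_comm, QuotientGroup.eq] at h2
        rwa [mul_comm] at h2)
  have hQ : Fintype.card ((B : Subgroup G) ⧸ W) = 4 := by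
    rw [← Nat.card_eq_fintype_card, ← index_eq_card, hidx]
  have hperm : Nat.card (Equiv.Perm {q : (B : Subgroup G) ⧸ W // q ≠ 1}) = 6 := by
    rw [Nat.card_eq_fintype_card, Fintype.card_perm, Fintype.card_subtype_compl, hQ,
      Fintype.card_subtype_eq]
    rfl
  have hdvd : Nat.card (autB B) ∣ 6 := hperm ▸ Subgroup.card_dvd_of_injective ψ hψ
  have hodd := odd_autB B
  have h13 : Nat.card (autB B) = 1 ∨ Nat.card (autB B) = 3 := by
    have := Nat.le_of_dvd (by norm_num) hdvd
    interval_cases Nat.card (autB B) <;> simp_all (config := { decide := true })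
  rcases h13 with h1 | h3
  · exfalso
    apply hWt
    refine eq_top_iff.2 fun x _ => ?_
    have hbot : autB B = ⊥ := card_eq_one.1 h1
    rw [fixed_eq_one hna hO B (b := x) fun f hf => by
      rw [hbot, mem_bot] at hf; rw [hf]; rfl]
    exact one_mem _
  haveI : Fact (Nat.Prime 3) := ⟨Nat.prime_three⟩
  obtain ⟨k, hk⟩ := exists_prime_orderOf_dvd_card' (G := autB B) 3 (by rw [h3])
  have hz : zpowers k = ⊤ := eq_top_of_card_eq _ (by rw [Nat.card_zpowers, hk, h3])
  have hk3 : (k.1 : MulAut (B : Subgroup G)) ^ 3 = 1 :=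
    congrArg Subtype.val (hk ▸ pow_orderOf_eq_one k : k ^ 3 = 1)
  refine ⟨k.1, k.2, fun b => ?_, fun f hf b => ?_⟩
  · have := congrArg (fun σ : MulAut (B : Subgroup G) => σ b) hk3
    simpa [pow_succ] using this
  · obtain ⟨i, hi⟩ := (mem_powers_iff_mem_zpowers.2 (hz ▸ mem_top (⟨f, hf⟩ : autB B)))
    simp only at hi
    rw [← pow_mod_orderOf, hk] at hi
    have h4 : i % 3 < 3 := Nat.mod_lt _ (by norm_num)
    have hf' : f = k.1 ^ (i % 3) := (congrArg Subtype.val hi).symm
    interval_cases i % 3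
    · left; rw [hf']; rfl
    · right; left; rw [hf', pow_one]
    · right; right; rw [hf', pow_two]; rfl

/-- There are at most three involutions. -/
theorem card_invol_le {k : MulAut (B : Subgroup G)} (hk : k ∈ autB B) (hk3 : ∀ b, k (k (k b)) = b)
    (hgen : ∀ f ∈ autB B, ∀ b, f b = b ∨ f b = k b ∨ f b = k (k b)) :
    Nat.card {x : (B : Subgroup G) // x * x = 1} ≤ 4 ∧
      ∀ b : (B : Subgroup G), k b = b → b = 1 := by
  classical
  have hfix : ∀ b : (B : Subgroup G), k b = b → b = 1 := fun b hb =>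
    fixed_eq_one hna hO B fun f hf => by
      rcases hgen f hf b with h | h | h
      · exact h
      · exact h.trans hb
      · exact h.trans (by rw [hb, hb])
  refine ⟨?_, hfix⟩
  have horb : ∀ b : (B : Subgroup G), b * b = 1 → ∃ E : Subgroup (B : Subgroup G), Inv' B E ∧
      b ∈ E ∧ ∀ x ∈ E, x = 1 ∨ x = b ∨ x = k b ∨ x = k (k b) := by
    intro b hb
    have e1 : k b * k b = 1 := by rw [← map_mul, hb, map_one]
    have e2 : k (k b) * k (k b) = 1 := by rw [← map_mul, e1, map_one]
    have hprod : b * k b * k (k b) = 1 := hfix _ (by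
      rw [map_mul, map_mul, hk3, mul_comm, mul_assoc])
    have p01 : b * k b = k (k b) := (eq_inv_of_mul_eq_one_left hprod).trans (inv_eq_of_mul_eq_one_left e2)
    have p12 : k b * k (k b) = b := by
      rw [← p01, mul_comm b (k b), ← mul_assoc, e1, one_mul]
    have p02 : b * k (k b) = k b := by rw [← p01, ← mul_assoc, hb, one_mul]
    refine ⟨
      { carrier := {x | x = 1 ∨ x = b ∨ x = k b ∨ x = k (k b)}
        one_mem' := Or.inl rfl
        mul_mem' := fun {x y} hx hy => by
          rcases hx with hx | hx | hx | hx <;> rcases hy with hy | hy | hy | hy <;> rw [hx, hy] <;>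
            simp [hb, e1, e2, p01, p12, p02, mul_comm (k b) b, mul_comm (k (k b)) b,
              mul_comm (k (k b)) (k b)]
        inv_mem' := fun {x} hx => by
          rcases hx with hx | hx | hx | hx <;> rw [hx]
          · exact Or.inl inv_one
          · exact Or.inr (Or.inl (inv_eq_of_mul_eq_one_left hb))
          · exact Or.inr (Or.inr (Or.inl (inv_eq_of_mul_eq_one_left e1)))
          · exact Or.inr (Or.inr (Or.inr (inv_eq_of_mul_eq_one_left e2))) },
      fun f hf x hx => ?_, Or.inr (Or.inl rfl), fun x hx => hx⟩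
    rcases hx with hx | hx | hx | hx <;> rw [hx]
    · exact Or.inl (map_one f)
    · rcases hgen f hf b with h | h | h <;> rw [h]
      · exact Or.inr (Or.inl rfl)
      · exact Or.inr (Or.inr (Or.inl rfl))
      · exact Or.inr (Or.inr (Or.inr rfl))
    · rcases hgen f hf (k b) with h | h | h <;> rw [h]
      · exact Or.inr (Or.inr (Or.inl rfl))
      · exact Or.inr (Or.inr (Or.inr rfl))
      · exact Or.inr (Or.inl (hk3 b))
    · rcases hgen f hf (k (k b)) with h | h | h <;> rw [h]
      · exact Or.inr (Or.inr (Or.inr rfl))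
      · exact Or.inr (Or.inl (hk3 b))
      · rw [hk3]; exact Or.inr (Or.inr (Or.inl rfl))
  by_cases hex : ∃ b : (B : Subgroup G), b * b = 1 ∧ b ≠ 1
  · obtain ⟨b, hb, hb1⟩ := hex
    obtain ⟨E, hE, hbE, hEx⟩ := horb b hb
    have hall : ∀ x : (B : Subgroup G), x * x = 1 → x ∈ E := fun x hx => by
      by_contra hxE
      obtain ⟨E', hE', hxE', hEx'⟩ := horb x hx
      refine hxE ?_
      by_cases hd : E ⊓ E' = ⊥
      · have := inv_meet hna hO B hE hE' hd fun h => hb1 (mem_bot.1 (h ▸ hbE))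
        rw [this, mem_bot] at hxE'
        rw [hxE']; exact one_mem _
      · obtain ⟨y, hy, hy1⟩ : ∃ y ∈ E ⊓ E', y ≠ 1 := by
          by_contra! hh; exact hd ((eq_bot_iff_forall _).2 hh)
        rcases hEx' y hy.2 with h | h | h | h
        · exact absurd h hy1
        · exact h ▸ hy.1
        · have := hE k hk _ (hE k hk y hy.1)
          rwa [h, hk3] at this
        · have := hE k hk y hy.1
          rwa [h, hk3] at this
    have hsub : ∀ x : {x : (B : Subgroup G) // x * x = 1},
        x.1 ∈ ({1, b, k b, k (k b)} : Finset (B : Subgroup G)) := fun x => by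
      have := hEx _ (hall x.1 x.2)
      simpa using this
    refine (Nat.card_le_card_of_injective (fun x => (⟨x.1, hsub x⟩ :
      {y // y ∈ ({1, b, k b, k (k b)} : Finset (B : Subgroup G))}))
      fun x y h => Subtype.ext (congrArg (fun w => w.1) h)).trans ?_
    rw [Nat.card_eq_fintype_card, Fintype.card_coe]
    exact Finset.card_le_four
  · push Not at hex
    haveI : Subsingleton {x : (B : Subgroup G) // x * x = 1} :=
      ⟨fun x y => Subtype.ext ((hex _ x.2).trans (hex _ y.2).symm)⟩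
    exact (Finite.card_le_one_iff_subsingleton.2 this).trans (by norm_num)

omit hna hO in
theorem card_torsion_le (h4 : Nat.card {x : (B : Subgroup G) // x * x = 1} ≤ 4) :
    ∀ j : ℕ, Nat.card (powMonoidHom (2 ^ j) : (B : Subgroup G) →* (B : Subgroup G)).ker ≤ 4 ^ j
  | 0 => by
    haveI : Subsingleton (powMonoidHom (2 ^ 0) : (B : Subgroup G) →* (B : Subgroup G)).ker :=
      ⟨fun x y => Subtype.ext (by
        have hx := x.2; have hy := y.2
        simp only [MonoidHom.mem_ker, powMonoidHom_apply, pow_zero, pow_one] at hx hy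
        rw [hx, hy])⟩
    exact (Finite.card_le_one_iff_subsingleton.2 this).trans (by norm_num)
  | j + 1 => by
    set r := (powMonoidHom 2).comp
      (powMonoidHom (2 ^ (j + 1)) : (B : Subgroup G) →* (B : Subgroup G)).ker.subtype with hr
    have h1 : Nat.card r.ker ≤ 4 := by
      refine (Nat.card_le_card_of_injective (fun x => (⟨x.1.1, ?_⟩ :
        {x : (B : Subgroup G) // x * x = 1})) fun x y h =>
          Subtype.ext (Subtype.ext (congrArg (fun w => w.1) h))).trans h4
      rw [← pow_two]; exact MonoidHom.mem_ker.1 x.2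
    have h2 : Nat.card r.range ≤ 4 ^ j := by
      refine (Subgroup.card_le_of_le ?_).trans (card_torsion_le h4 j)
      rintro _ ⟨x, rfl⟩
      rw [MonoidHom.mem_ker]
      show (x.1 ^ 2) ^ 2 ^ j = 1
      rw [← pow_mul, ← pow_succ']
      exact MonoidHom.mem_ker.1 x.2
    calc _ = Nat.card r.ker * Nat.card r.range := by rw [← index_ker, card_mul_index]
      _ ≤ 4 * 4 ^ j := Nat.mul_le_mul h1 h2
      _ = 4 ^ (j + 1) := (pow_succ' 4 j).symm

/-- The Sylow subgroup is a four group. -/
theorem abelian_case {W : Subgroup G} (hWinv : ∀ n ∈ normalizer ((B : Subgroup G) : Set G), ∀ w ∈ W,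
    n * w * n⁻¹ ∈ W) (hidx : W.relIndex (B : Subgroup G) = 4) :
    Nat.card (B : Subgroup G) = 4 ∧ GW.SylowDihedral G := by
  classical
  haveI : Fact (Nat.Prime 2) := ⟨Nat.prime_two⟩
  have hW : Inv' B (W.subgroupOf (B : Subgroup G)) := by
    rintro _ ⟨⟨n, hn⟩, rfl⟩ x hx
    exact hWinv n hn _ hx
  obtain ⟨k, hk, hk3, hgen⟩ := exists_three hna hO B hW hidx
  obtain ⟨h4, hfix⟩ := card_invol_le hna hO B hk hk3 hgen
  obtain ⟨b, hb⟩ := Monoid.exists_orderOf_eq_exponent
    (Monoid.ExponentExists.of_finite (G := (B : Subgroup G)))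
  obtain ⟨N, hN⟩ := B.2.exists_card_eq
  obtain ⟨m, -, hm⟩ := (Nat.dvd_prime_pow Nat.prime_two).1 (hN ▸ Group.exponent_dvd_nat_card (G := (B : Subgroup G)))
  have hexp : ∀ x : (B : Subgroup G), x ^ 2 ^ m = 1 := fun x => hm ▸ Monoid.pow_exponent_eq_one x
  have hle : Nat.card (B : Subgroup G) ≤ 2 ^ m * 2 ^ m := by
    have h1 := card_torsion_le B h4 m
    rw [show (powMonoidHom (2 ^ m) : (B : Subgroup G) →* (B : Subgroup G)).ker = ⊤ from
      eq_top_iff.2 fun x _ => hexp x, card_top, show 4 = 2 * 2 by norm_num, mul_pow] at h1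
    exact h1
  have hWle : 4 ≤ Nat.card (B : Subgroup G) :=
    hidx ▸ Nat.le_of_dvd Nat.card_pos (index_dvd_card (W.subgroupOf (B : Subgroup G)))
  rcases m with _ | m
  · simp at hle; omega
  have hbo : orderOf b = 2 ^ (m + 1) := hb.trans hm
  set b₀ := b ^ 2 ^ m with hb0
  have hb01 : b₀ ≠ 1 := fun h => by
    have h1 := Nat.le_of_dvd (pow_pos two_pos m) (orderOf_dvd_of_pow_eq_one h)
    have h2 : 0 < 2 ^ m := pow_pos two_pos m
    rw [hbo, pow_succ] at h1; omega
  have hb02 : b₀ * b₀ = 1 := by rw [hb0, ← pow_add, ← two_mul, ← pow_succ', hexp]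
  set n := 2 ^ (m + 1) with hn
  haveI : NeZero n := ⟨pow_ne_zero _ two_ne_zero⟩
  have hadd : ∀ (x : (B : Subgroup G)) (i j : ZMod n), x ^ (i + j).val = x ^ i.val * x ^ j.val :=
    fun x i j => by
      rw [← pow_add, ZMod.val_add]
      exact (pow_eq_pow_mod _ (hexp x)).symm
  let χ : Multiplicative (ZMod n × ZMod n) →* (B : Subgroup G) :=
    MonoidHom.mk' (fun p => b ^ p.toAdd.1.val * k b ^ p.toAdd.2.val) fun p q => by
      rw [toAdd_mul, Prod.fst_add, Prod.snd_add, hadd, hadd, mul_mul_mul_comm]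
  have hχ : Function.Injective χ := (injective_iff_map_eq_one χ).2 fun p hp => by
    by_contra hp1
    obtain ⟨j, -, hj⟩ := (Nat.dvd_prime_pow Nat.prime_two).1
      (show orderOf p ∣ 2 ^ (2 * (m + 1)) by
        have : Nat.card (Multiplicative (ZMod n × ZMod n)) = 2 ^ (2 * (m + 1)) := by
          rw [Nat.card_congr Multiplicative.toAdd, Nat.card_prod, Nat.card_zmod, hn, ← pow_add]; congr 1; omega
        exact this ▸ orderOf_dvd_natCard p)
    rcases j with _ | j
    · exact hp1 (orderOf_eq_one_iff.1 (by simpa using hj))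
    set q := p ^ 2 ^ j with hq
    have hqo : orderOf q = 2 := by
      rw [hq, orderOf_pow_of_dvd (pow_ne_zero _ two_ne_zero) (by rw [hj]; exact pow_dvd_pow 2 (by omega)),
        hj, pow_succ, Nat.mul_div_cancel_left _ (pow_pos two_pos _)]
    have hχq : χ q = 1 := by rw [hq, map_pow, hp, one_pow]
    have hhalf : ∀ i : ZMod n, i + i = 0 → i.val = 0 ∨ i.val = 2 ^ m := fun i hi => by
      have h1 : (i.val + i.val) % n = 0 := by rw [← ZMod.val_add, hi, ZMod.val_zero]
      have h2 := ZMod.val_lt i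
      have h3 : n = 2 * 2 ^ m := by rw [hn, pow_succ']
      rcases Nat.lt_or_ge (i.val + i.val) n with h5 | h5
      · rw [Nat.mod_eq_of_lt h5] at h1; omega
      · rw [Nat.mod_eq_sub_mod h5, Nat.mod_eq_of_lt (by omega)] at h1; omega
    have hqq : q.toAdd + q.toAdd = 0 := by
      rw [← toAdd_mul, ← pow_two, ← hqo, pow_orderOf_eq_one, toAdd_one]
    have h1 := hhalf q.toAdd.1 (congrArg Prod.fst hqq)
    have h2 := hhalf q.toAdd.2 (congrArg Prod.snd hqq)
    change b ^ q.toAdd.1.val * k b ^ q.toAdd.2.val = 1 at hχq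
    rcases h1 with h1 | h1 <;> rcases h2 with h2 | h2 <;> rw [h1, h2] at hχq
    · have : q = 1 := Multiplicative.toAdd.injective (Prod.ext
        ((ZMod.val_eq_zero _).1 h1) ((ZMod.val_eq_zero _).1 h2))
      rw [this, orderOf_one] at hqo; exact absurd hqo (by norm_num)
    · rw [pow_zero, one_mul, ← map_pow, ← hb0] at hχq
      exact hb01 (k.injective (hχq.trans (map_one k).symm))
    · rw [pow_zero, mul_one, ← hb0] at hχq
      exact hb01 hχq
    · rw [← map_pow, ← hb0] at hχq
      exact hb01 (hfix b₀ ((eq_inv_of_mul_eq_one_right hχq).trans (inv_eq_of_mul_eq_one_left hb02)))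
  have hcard : Nat.card (Multiplicative (ZMod n × ZMod n)) = n * n := by
    rw [Nat.card_congr Multiplicative.toAdd, Nat.card_prod, Nat.card_zmod]
  have hge : n * n ≤ Nat.card (B : Subgroup G) := hcard ▸ Nat.card_le_card_of_injective χ hχ
  have hB : Nat.card (B : Subgroup G) = n * n := le_antisymm hle hge
  rcases m with _ | m
  · have h22 : Nat.card (B : Subgroup G) = 4 := by rw [hB, hn]; norm_num
    haveI : IsKleinFour (B : Subgroup G) := ⟨h22, by rw [hm]; norm_num⟩
    exact ⟨h22, GW.sylowDihedral_of_equiv B (n := 2) le_rfl IsKleinFour.nonempty_mulEquiv⟩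
  · exfalso
    let e := MulEquiv.ofBijective χ ((Nat.bijective_iff_injective_and_card χ).2 ⟨hχ, hcard.trans hB.symm⟩)
    have hnorm := (Cfsg.Agent.S0949.result B (m + 2) (by omega) e.symm fun N hN hodd => by
      rw [eq_bot_iff, ← hO]; exact ZStar.le_oddCore hN hodd).1
    rcases hnorm.eq_bot_or_eq_top with h | h
    · rw [h, card_bot] at hWle; omega
    · exact hna ⟨⟨fun x y => congrArg Subtype.val
        (mul_comm (⟨x, h ▸ mem_top x⟩ : (B : Subgroup G)) ⟨y, h ▸ mem_top y⟩)⟩⟩

end Cfsg.Lib.CentreIndexFour
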