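import Mathlib.GroupTheory.Sylow
import Mathlib.GroupTheory.PGroup
import Mathlib.GroupTheory.Index

/-!
# Finite 2-groups with centre of index four, as subgroups of an ambient group

The centre of `P` has index four, all commutators lie in a group `⟨z⟩` of order two.
-/

set_option autoImplicit false
set_option linter.unusedSectionVars false
set_option linter.style.haveILetI false

namespace Cfsg.Lib.CentreIndexFour

open Subgroup

variable {G : Type*} [Group G] [Finite G]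

/-- The centre of `P`, inside the ambient group. -/
def Zc (P : Subgroup G) : Subgroup G := P ⊓ centralizer (P : Set G)

/-- The centralizer of `a` in `P`. -/
def Cen (P : Subgroup G) (a : G) : Subgroup G := P ⊓ centralizer ({a} : Set G)

/-- The conjugate `g H g⁻¹`. -/
def cj (g : G) (H : Subgroup G) : Subgroup G := H.map (MulAut.conj g).toMonoidHom

theorem mem_zc {P : Subgroup G} {x : G} : x ∈ Zc P ↔ x ∈ P ∧ ∀ y ∈ P, y * x = x * y := by
  rw [Zc, mem_inf, mem_centralizer_iff]; exact Iff.rfl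

theorem mem_cen {P : Subgroup G} {a x : G} : x ∈ Cen P a ↔ x ∈ P ∧ x * a = a * x := by
  rw [Cen, mem_inf, mem_centralizer_singleton_iff]

theorem mem_cj {g : G} {H : Subgroup G} {x : G} : x ∈ cj g H ↔ g⁻¹ * x * g ∈ H := by
  constructor
  · rintro ⟨y, hy, rfl⟩; simpa [mul_assoc] using hy
  · exact fun h => ⟨_, h, by simp [mul_assoc]⟩

theorem card_cj (g : G) (H : Subgroup G) : Nat.card (cj g H) = Nat.card H :=
  Nat.card_congr (H.equivMapOfInjective _ (MulEquiv.injective (MulAut.conj g))).symm.toEquiv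

theorem cj_le {g : G} {H K : Subgroup G} : cj g H ≤ K ↔ ∀ x ∈ H, g * x * g⁻¹ ∈ K :=
  ⟨fun h x hx => h (mem_cj.2 (by simpa [mul_assoc] using hx)),
    fun h => by rintro _ ⟨y, hy, rfl⟩; exact h y hy⟩

theorem cj_mul (g h : G) (H : Subgroup G) : cj (g * h) H = cj g (cj h H) := by
  ext x; simp only [mem_cj, mul_inv_rev]; simp [mul_assoc]

/-- `P` is a nonabelian 2-group with centre of index four and derived subgroup `⟨z⟩`. -/
structure Ci4 (P : Subgroup G) (z : G) : Prop where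
  isP : IsPGroup 2 P
  zmem : z ∈ Zc P
  zne : z ≠ 1
  zsq : z * z = 1
  card : Nat.card P = 4 * Nat.card (Zc P)
  sq : ∀ x ∈ P, x * x ∈ Zc P
  comm : ∀ x ∈ P, ∀ y ∈ P, x * y = y * x ∨ x * y = z * (y * x)

variable {P : Subgroup G} {z : G}

theorem cen_le {a : G} : Cen P a ≤ P := inf_le_left

theorem zc_le_cen {a : G} (ha : a ∈ P) : Zc P ≤ Cen P a := fun x hx =>
  mem_cen.2 ⟨hx.1, ((mem_zc.1 hx).2 a ha).symm⟩

theorem cen_props (hcard : Nat.card P = 4 * Nat.card (Zc P)) {a : G} (ha : a ∈ P)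
    (haZ : a ∉ Zc P) : Nat.card (Cen P a) = 2 * Nat.card (Zc P) ∧
      ∀ x ∈ Cen P a, x ∉ Zc P → a⁻¹ * x ∈ Zc P := by
  have hle := zc_le_cen ha
  have haC : a ∈ Cen P a := mem_cen.2 ⟨ha, rfl⟩
  have h1 : Nat.card (Zc P) ∣ Nat.card (Cen P a) := card_dvd_of_le hle
  have h2 : Nat.card (Cen P a) ∣ Nat.card P := card_dvd_of_le inf_le_left
  have h3 : Nat.card (Cen P a) ≠ Nat.card (Zc P) := fun h =>
    haZ (Subgroup.eq_of_le_of_card_ge hle h.le ▸ haC)
  have h4 : Nat.card (Cen P a) ≠ Nat.card P := fun h => by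
    have he : Cen P a = P := Subgroup.eq_of_le_of_card_ge inf_le_left h.ge
    exact haZ (mem_zc.2 ⟨ha, fun y hy => (mem_cen.1 (he.symm ▸ hy : y ∈ Cen P a)).2⟩)
  have hpos : 0 < Nat.card (Zc P) := Nat.card_pos
  obtain ⟨k, hk⟩ := h1
  have hk4 : k ∣ 4 := by
    rw [hcard, hk, mul_comm 4] at h2
    exact Nat.dvd_of_mul_dvd_mul_left hpos h2
  have hk2 : k = 2 := by
    have : k ≤ 4 := Nat.le_of_dvd (by norm_num) hk4
    interval_cases k
    · exact absurd hk4 (by norm_num)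
    · exact absurd (by simpa using hk) h3
    · rfl
    · exact absurd hk4 (by norm_num)
    · exact absurd (by rw [hk, hcard, mul_comm]) h4
  refine ⟨by rw [hk, hk2, mul_comm], fun x hx hxZ => ?_⟩
  have hidx : ((Zc P).subgroupOf (Cen P a)).index = 2 := by
    have h5 := Subgroup.card_mul_index ((Zc P).subgroupOf (Cen P a))
    rw [Nat.card_congr (subgroupOfEquivOfLe hle).toEquiv, hk, hk2] at h5
    exact Nat.eq_of_mul_eq_mul_left hpos h5
  have h6 := (mul_mem_iff_of_index_two hidx (a := (⟨a, haC⟩⁻¹ : Cen P a)) (b := ⟨x, hx⟩))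
  simp only [mem_subgroupOf, coe_mul, InvMemClass.coe_inv] at h6
  exact h6.2 ⟨fun h => absurd (inv_mem_iff.1 h) haZ, fun h => absurd h hxZ⟩

/-- A nonabelian 2-group with centre of index four has a derived subgroup of order two. -/
theorem exists_ci4 (hP : IsPGroup 2 P) (hna : ∃ x ∈ P, ∃ y ∈ P, x * y ≠ y * x)
    (hcard : Nat.card P = 4 * Nat.card (Zc P)) : ∃ z : G, Ci4 P z := by
  have hsq : ∀ x ∈ P, x * x ∈ Zc P := fun x hx => by
    by_cases hxZ : x ∈ Zc P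
    · exact mul_mem hxZ hxZ
    by_contra hh
    have h := (cen_props hcard hx hxZ).2 (x * x) (mem_cen.2 ⟨mul_mem hx hx, mul_assoc x x x⟩) hh
    rw [inv_mul_cancel_left] at h
    exact hxZ h
  have hin : ∀ x ∈ P, ∀ y ∈ P, x * y * x⁻¹ * y⁻¹ ∈ Zc P := fun x hx y hy => by
    have h1 : (x * x)⁻¹ * y⁻¹ = y⁻¹ * (x * x)⁻¹ :=
      ((mem_zc.1 (inv_mem (hsq x hx))).2 _ (inv_mem hy)).symm
    have he : x * y * x⁻¹ * y⁻¹ = x * y * (x * y) * (x * x)⁻¹ * (y * y)⁻¹ := by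
      calc x * y * x⁻¹ * y⁻¹ = x * y * x * ((x * x)⁻¹ * y⁻¹) := by group
        _ = x * y * x * (y⁻¹ * (x * x)⁻¹) := by rw [h1]
        _ = x * y * (x * y) * ((y * y)⁻¹ * (x * x)⁻¹) := by group
        _ = x * y * (x * y) * ((x * x)⁻¹ * (y * y)⁻¹) := by
          rw [(mem_zc.1 (inv_mem (hsq x hx))).2 _ (inv_mem (mul_mem hy hy))]
        _ = _ := by group
    rw [he]
    exact mul_mem (mul_mem (hsq _ (mul_mem hx hy)) (inv_mem (hsq x hx))) (inv_mem (hsq y hy))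
  have hsame : ∀ x ∈ P, ∀ y ∈ P, ∀ y' ∈ P, x * y ≠ y * x → x * y' ≠ y' * x →
      x * y' * x⁻¹ * y'⁻¹ = x * y * x⁻¹ * y⁻¹ := fun x hx y hy y' hy' hc hc' => by
    have hxZ : x ∉ Zc P := fun h => hc ((mem_zc.1 h).2 y hy).symm
    have hy0 : y ∉ Zc P := fun h => hc ((mem_zc.1 h).2 x hx)
    have hC : y' * y ∈ Cen P x := by
      by_contra hC
      obtain ⟨hcC, -⟩ := cen_props hcard hx hxZ
      have hidx : ((Cen P x).subgroupOf P).index = 2 := by
        have h5 := Subgroup.card_mul_index ((Cen P x).subgroupOf P)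
        rw [Nat.card_congr (subgroupOfEquivOfLe (cen_le : Cen P x ≤ P)).toEquiv, hcC, hcard] at h5
        exact Nat.eq_of_mul_eq_mul_left (Nat.mul_pos two_pos Nat.card_pos) (h5.trans (by ring))
      refine hC ((mul_mem_iff_of_index_two hidx (a := (⟨y', hy'⟩ : P)) (b := ⟨y, hy⟩)).2 ⟨fun h => ?_, fun h => ?_⟩)
      · exact absurd (mem_cen.1 h).2.symm hc'
      · exact absurd (mem_cen.1 h).2.symm hc
    set c := x * y * x⁻¹ * y⁻¹ with hcd
    set c' := x * y' * x⁻¹ * y'⁻¹ with hcd'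
    have hcc : x * (y' * y) * x⁻¹ = c' * c * (y' * y) := by
      calc x * (y' * y) * x⁻¹ = c' * y' * (c * y) := by rw [hcd, hcd']; group
        _ = c' * (y' * c) * y := by group
        _ = c' * (c * y') * y := by rw [(mem_zc.1 (hin x hx y hy)).2 y' hy']
        _ = _ := by group
    rw [← (mem_cen.1 hC).2, mul_inv_cancel_right] at hcc
    have h1 : c' * c = 1 := mul_eq_right.1 hcc.symm
    have h2 : c * c = 1 := by
      have : x * x * y = y * (x * x) := ((mem_zc.1 (hsq x hx)).2 y hy).symm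
      calc c * c = x * y * x⁻¹ * (y⁻¹ * c) := by rw [hcd]; group
        _ = x * y * x⁻¹ * (c * y⁻¹) := by rw [(mem_zc.1 (hin x hx y hy)).2 _ (inv_mem hy)]
        _ = x * (y * x⁻¹ * c) * y⁻¹ := by group
        _ = x * (c * (y * x⁻¹)) * y⁻¹ := by
          rw [(mem_zc.1 (hin x hx y hy)).2 _ (mul_mem hy (inv_mem hx))]
        _ = x * x * y * (x * x)⁻¹ * y⁻¹ := by rw [hcd]; group
        _ = 1 := by rw [this]; group
    rw [eq_inv_of_mul_eq_one_left h1, ← eq_inv_of_mul_eq_one_left h2]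
  obtain ⟨a, ha, b, hb, hab⟩ := hna
  set z := a * b * a⁻¹ * b⁻¹ with hzd
  have hzZ : z ∈ Zc P := hin a ha b hb
  have hzne : z ≠ 1 := fun h => hab (by
    rw [hzd, mul_inv_eq_one, mul_inv_eq_iff_eq_mul] at h; exact h)
  have hz2 : z * z = 1 := by
    have h := hsame a ha b hb b⁻¹ (inv_mem hb) hab (fun h => hab (by
      calc a * b = b * (b⁻¹ * a) * b := by group
        _ = b * (a * b⁻¹) * b := by rw [h]
        _ = b * a := by group))
    have hcomm : b * z = z * b := (mem_zc.1 hzZ).2 b hb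
    have hinv : a * b⁻¹ * a⁻¹ * b⁻¹⁻¹ = z⁻¹ := by
      calc a * b⁻¹ * a⁻¹ * b⁻¹⁻¹ = (z * b)⁻¹ * b := by rw [hzd]; group
        _ = (b * z)⁻¹ * b := by rw [hcomm]
        _ = z⁻¹ := by group
    rw [hinv] at h
    calc z * z = z⁻¹ * z := by rw [h]
      _ = 1 := inv_mul_cancel z
  refine ⟨z, hP, hzZ, hzne, hz2, hcard, hsq, fun x hx y hy => ?_⟩
  by_cases hxy : x * y = y * x
  · exact Or.inl hxy
  refine Or.inr ?_
  -- an element commuting with neither `a` nor `x`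
  obtain ⟨w, hw, hwa, hwx⟩ : ∃ w ∈ P, a * w ≠ w * a ∧ x * w ≠ w * x := by
    by_contra! hno
    by_cases hxb : x * b = b * x
    · by_cases hay : a * y = y * a
      · have h1 : a * (b * y) ≠ b * y * a := fun h => hab (mul_right_cancel (b := y) (by
          rw [mul_assoc, h, mul_assoc, ← hay, mul_assoc]))
        have h2 := hno (b * y) (mul_mem hb hy) h1
        exact hxy (mul_left_cancel (a := b) (by rw [← mul_assoc, ← hxb, mul_assoc, h2, mul_assoc]))
      · exact hxy (hno y hy hay)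
    · exact hxb (hno b hb hab)
  have hflip : ∀ p ∈ P, ∀ q ∈ P, p * q * p⁻¹ * q⁻¹ = z → q * p * q⁻¹ * p⁻¹ = z := fun p hp q hq h => by
    calc q * p * q⁻¹ * p⁻¹ = (p * q * p⁻¹ * q⁻¹)⁻¹ := by group
      _ = z := by rw [h, inv_eq_of_mul_eq_one_right hz2]
  have h1 : a * w * a⁻¹ * w⁻¹ = z := hsame a ha b hb w hw hab hwa
  have h2 : w * x * w⁻¹ * x⁻¹ = z := by
    rw [hsame w hw a ha x hx (fun h => hwa h.symm) (fun h => hwx h.symm)]
    exact hflip a ha w hw h1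
  have h3 : x * y * x⁻¹ * y⁻¹ = z := by
    rw [hsame x hx w hw y hy hwx hxy]
    exact hflip w hw x hx h2
  rw [← h3]; group

namespace Ci4

theorem zinv (h : Ci4 P z) : z⁻¹ = z := inv_eq_of_mul_eq_one_right h.zsq

theorem zmemP (h : Ci4 P z) : z ∈ P := h.zmem.1

theorem z_comm (h : Ci4 P z) {x : G} (hx : x ∈ P) : x * z = z * x := (mem_zc.1 h.zmem).2 x hx

theorem card_cen (h : Ci4 P z) {a : G} (ha : a ∈ P) (haZ : a ∉ Zc P) :
    Nat.card (Cen P a) = 2 * Nat.card (Zc P) :=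
  (cen_props h.card ha haZ).1

theorem cen_cases (h : Ci4 P z) {a : G} (ha : a ∈ P) (haZ : a ∉ Zc P) {x : G} (hx : x ∈ Cen P a) :
    x ∈ Zc P ∨ a⁻¹ * x ∈ Zc P :=
  or_iff_not_imp_left.2 ((cen_props h.card ha haZ).2 x hx)

theorem cen_comm (h : Ci4 P z) {a : G} (ha : a ∈ P) (haZ : a ∉ Zc P) {x y : G} (hx : x ∈ Cen P a)
    (hy : y ∈ Cen P a) : x * y = y * x := by
  rcases h.cen_cases ha haZ hx with h1 | h1
  · exact ((mem_zc.1 h1).2 y hy.1).symm
  · have h2 : y * (a⁻¹ * x) = a⁻¹ * x * y := (mem_zc.1 h1).2 y hy.1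
    calc x * y = a * (a⁻¹ * x * y) := by group
      _ = a * y * (a⁻¹ * x) := by rw [← h2]; group
      _ = y * a * (a⁻¹ * x) := by rw [(mem_cen.1 hy).2]
      _ = y * x := by group

theorem cen_eq (h : Ci4 P z) {a b : G} (ha : a ∈ P) (haZ : a ∉ Zc P) (hb : b ∈ Cen P a)
    (hbZ : b ∉ Zc P) : Cen P b = Cen P a := by
  refine (Subgroup.eq_of_le_of_card_ge ?_ ?_).symm
  · exact fun x hx => mem_cen.2 ⟨hx.1, h.cen_comm ha haZ hx hb⟩
  · rw [h.card_cen ha haZ, h.card_cen hb.1 hbZ]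

/-- An element of `P` which does not centralize `x` multiplies it by `z`. -/
theorem conj_eq (h : Ci4 P z) {t x : G} (ht : t ∈ P) (hx : x ∈ P) :
    t * x * t⁻¹ = x ∧ t * x = x * t ∨ t * x * t⁻¹ = z * x ∧ t * x ≠ x * t := by
  rcases h.comm t ht x hx with h1 | h1
  · exact Or.inl ⟨by rw [h1, mul_inv_cancel_right], h1⟩
  · refine Or.inr ⟨by rw [h1]; group, fun h2 => h.zne ?_⟩
    rw [h2] at h1
    exact mul_eq_right.1 h1.symm

theorem conj_of_not_comm (h : Ci4 P z) {t x : G} (ht : t ∈ P) (hx : x ∈ P) (hne : t * x ≠ x * t) :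
    t * x * t⁻¹ = z * x := by
  rcases h.conj_eq ht hx with h1 | h1
  · exact absurd h1.2 hne
  · exact h1.1

theorem not_comm (h : Ci4 P z) {a t x : G} (ha : a ∈ P) (haZ : a ∉ Zc P) (ht : t ∈ P) (htC : t ∉ Cen P a)
    (hx : x ∈ Cen P a) (hxZ : x ∉ Zc P) : t * x ≠ x * t := fun h1 =>
  htC (h.cen_eq ha haZ hx hxZ ▸ mem_cen.2 ⟨ht, h1⟩)

theorem exists_notMem_cen (h : Ci4 P z) {a : G} (ha : a ∈ P) (haZ : a ∉ Zc P) :
    ∃ t ∈ P, t ∉ Cen P a := by
  by_contra! hh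
  exact haZ (mem_zc.2 ⟨ha, fun y hy => (mem_cen.1 (hh y hy)).2⟩)

/-- An abelian subgroup of order `2|Z|` is the centralizer of one of its elements. -/
theorem eq_cen (h : Ci4 P z) {B : Subgroup G} (hBP : B ≤ P) (hcomm : ∀ x ∈ B, ∀ y ∈ B, x * y = y * x)
    (hcard : Nat.card B = 2 * Nat.card (Zc P)) : ∃ b ∈ B, b ∉ Zc P ∧ B = Cen P b := by
  obtain ⟨b, hb, hbZ⟩ : ∃ b ∈ B, b ∉ Zc P := by
    by_contra! hh
    have := Subgroup.card_le_of_le (show B ≤ Zc P from hh)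
    have hp : 0 < Nat.card (Zc P) := Nat.card_pos
    omega
  exact ⟨b, hb, hbZ, Subgroup.eq_of_le_of_card_ge (fun x hx => mem_cen.2 ⟨hBP hx, hcomm x hx b hb⟩)
    (by rw [h.card_cen (hBP hb) hbZ, hcard])⟩

end Ci4

theorem zc_cj (g : G) (P : Subgroup G) : Zc (cj g P) = cj g (Zc P) := by
  ext x
  simp only [mem_zc, mem_cj]
  refine ⟨fun ⟨h1, h2⟩ => ⟨h1, fun y hy => ?_⟩, fun ⟨h1, h2⟩ => ⟨h1, fun y hy => ?_⟩⟩
  · have := h2 (g * y * g⁻¹) (by simpa [mul_assoc] using hy)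
    calc y * (g⁻¹ * x * g) = g⁻¹ * (g * y * g⁻¹ * x) * g := by group
      _ = g⁻¹ * (x * (g * y * g⁻¹)) * g := by rw [this]
      _ = g⁻¹ * x * g * y := by group
  · have := h2 _ hy
    calc y * x = g * (g⁻¹ * y * g * (g⁻¹ * x * g)) * g⁻¹ := by group
      _ = g * (g⁻¹ * x * g * (g⁻¹ * y * g)) * g⁻¹ := by rw [this]
      _ = x * y := by group

theorem cen_cj (g : G) (P : Subgroup G) (a : G) : cj g (Cen P a) = Cen (cj g P) (g * a * g⁻¹) := by
  ext x
  simp only [mem_cen, mem_cj]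
  refine and_congr_right fun _ => ⟨fun h => ?_, fun h => ?_⟩
  · calc x * (g * a * g⁻¹) = g * (g⁻¹ * x * g * a) * g⁻¹ := by group
      _ = g * (a * (g⁻¹ * x * g)) * g⁻¹ := by rw [h]
      _ = g * a * g⁻¹ * x := by group
  · calc g⁻¹ * x * g * a = g⁻¹ * (x * (g * a * g⁻¹)) * g := by group
      _ = g⁻¹ * (g * a * g⁻¹ * x) * g := by rw [h]
      _ = a * (g⁻¹ * x * g) := by group

/-- The conjugates of `P` inherit the structure. -/
theorem Ci4.conj (h : Ci4 P z) (g : G) : Ci4 (cj g P) (g * z * g⁻¹) where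
  isP := h.isP.map _
  zmem := by rw [zc_cj, mem_cj]; simpa [mul_assoc] using h.zmem
  zne := fun h1 => h.zne (conj_eq_one_iff.1 h1)
  zsq := by
    calc g * z * g⁻¹ * (g * z * g⁻¹) = g * (z * z) * g⁻¹ := by group
      _ = 1 := by rw [h.zsq]; group
  card := by rw [zc_cj, card_cj, card_cj, h.card]
  sq := fun x hx => by
    rw [zc_cj, mem_cj, show g⁻¹ * (x * x) * g = g⁻¹ * x * g * (g⁻¹ * x * g) by group]
    exact h.sq _ (mem_cj.1 hx)
  comm := fun x hx y hy => by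
    rcases h.comm _ (mem_cj.1 hx) _ (mem_cj.1 hy) with h1 | h1
    · left
      calc x * y = g * (g⁻¹ * x * g * (g⁻¹ * y * g)) * g⁻¹ := by group
        _ = g * (g⁻¹ * y * g * (g⁻¹ * x * g)) * g⁻¹ := by rw [h1]
        _ = y * x := by group
    · right
      calc x * y = g * (g⁻¹ * x * g * (g⁻¹ * y * g)) * g⁻¹ := by group
        _ = g * (z * (g⁻¹ * y * g * (g⁻¹ * x * g))) * g⁻¹ := by rw [h1]
        _ = g * z * g⁻¹ * (y * x) := by group

end Cfsg.Lib.CentreIndexFour
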