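import Cfsg.Agent.Lib.CentreIndexFour.Hot
import Cfsg.Prelude.Def_TwoFusion

/-!
# Two strongly closed subgroups of a Sylow 2-subgroup with centre of index four

`fusedCore P z` is the centre part fixed by all hot conjugates, `zGen P z` is generated by the
conjugates of `z` in `P`.
-/

set_option autoImplicit false
set_option linter.unusedSectionVars false
set_option linter.style.haveILetI false

namespace Cfsg.Lib.CentreIndexFour

open Subgroup

variable {G : Type*} [Group G] [Finite G] {P : Sylow 2 G} {z : G}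

theorem mem_cj_self {g x : G} {H : Subgroup G} : g * x * g⁻¹ ∈ cj g H ↔ x ∈ H := by
  rw [mem_cj]; simp [mul_assoc]

theorem mul_comm_of_zc {Q : Subgroup G} {x c : G} (hc : c ∈ Zc Q) (hx : x ∈ Q) : x * c = c * x :=
  (mem_zc.1 hc).2 x hx

/-- A conjugate of a central element can be chosen so that `g P g⁻¹` contains its centralizer. -/
theorem exists_conj_le (h : Ci4 (P : Subgroup G) z) {r g x : G} (hr : r ∈ Zc (P : Subgroup G))
    (hx : x ∈ (P : Subgroup G)) (hg : g * r * g⁻¹ = x) :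
    ∃ g', g' * r * g'⁻¹ = x ∧ Cen (P : Subgroup G) x ≤ cj g' (P : Subgroup G) := by
  haveI : Fact (Nat.Prime 2) := ⟨Nat.prime_two⟩
  set C := centralizer ({x} : Set G) with hC
  have hle : ((g • P : Sylow 2 G) : Subgroup G) ≤ C := by
    rintro _ ⟨y, hy, rfl⟩
    rw [hC, mem_centralizer_singleton_iff]
    show g * y * g⁻¹ * x = x * (g * y * g⁻¹)
    calc g * y * g⁻¹ * x = g * (y * r) * g⁻¹ := by rw [← hg]; group
      _ = g * (r * y) * g⁻¹ := by rw [mul_comm_of_zc hr hy]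
      _ = x * (g * y * g⁻¹) := by rw [← hg]; group
  have hA : Cen (P : Subgroup G) x ≤ C := inf_le_right
  obtain ⟨S, hS⟩ := ((P.2.to_le (inf_le_left : Cen (P : Subgroup G) x ≤ P)).comap_subtype
    (K := C)).exists_le_sylow
  obtain ⟨c, hc⟩ := MulAction.exists_smul_eq C ((g • P).subtype hle) S
  refine ⟨(c : G) * g, ?_, fun y hy => ?_⟩
  · calc (c : G) * g * r * ((c : G) * g)⁻¹ = c * (g * r * g⁻¹) * (c : G)⁻¹ := by group
      _ = x * c * (c : G)⁻¹ := by rw [hg, mem_centralizer_singleton_iff.1 c.2]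
      _ = x := by group
  · have h1 : (⟨y, hA hy⟩ : C) ∈ (S : Subgroup C) := hS hy
    rw [← hc, Sylow.smul_subtype] at h1
    have h2 : y ∈ ((((c : G) • (g • P)) : Sylow 2 G) : Subgroup G) := h1
    rw [← mul_smul] at h2
    exact h2

theorem exists_hot (h : Ci4 (P : Subgroup G) z) {g x : G} (hg : g * z * g⁻¹ = x)
    (hx : x ∈ (P : Subgroup G)) (hne : x ≠ z) : ∃ g', Hot (P : Subgroup G) z g' x := by
  have hxZ : x ∉ Zc (P : Subgroup G) := fun hc => hne (by rw [← hg] at hc ⊢; exact h.eq_z_of_conj hc)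
  obtain ⟨g', h1, h2⟩ := exists_conj_le h h.zmem hx hg
  exact ⟨g', h1, hx, hxZ, h2⟩

/-- The fusion of central elements into noncentral ones. -/
theorem fusion (h : Ci4 (P : Subgroup G) z) {r g x : G} (hr : r ∈ Zc (P : Subgroup G))
    (hx : x ∈ (P : Subgroup G)) (hxZ : x ∉ Zc (P : Subgroup G)) (hg : g * r * g⁻¹ = x) :
    ∃ g' u, Hot (P : Subgroup G) z g' u ∧ u * x ∈ cj g' (Zc (P : Subgroup G)) ∧
      ∃ n ∈ normalizer ((P : Subgroup G) : Set G), n * r * n⁻¹ = z * (u * x) := by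
  obtain ⟨g', hr', hle⟩ := exists_conj_le h hr hx hg
  have hxT : x ∈ cj g' (Zc (P : Subgroup G)) := hr' ▸ mem_cj_self.2 hr
  have hzne : g' * z * g'⁻¹ ≠ z := fun he => hxZ (h.same hx hxZ hle he ▸ hxT)
  set u := g' * z * g'⁻¹ with hu
  have huA : u ∈ Cen (P : Subgroup G) x := h.cj_zc_le hx hxZ hle (mem_cj_self.2 h.zmem)
  have huZ : u ∉ Zc (P : Subgroup G) := fun hc => hzne (h.eq_z_of_conj hc)
  have hcen := h.cen_eq hx hxZ huA huZ
  have hot : Hot (P : Subgroup G) z g' u := ⟨rfl, huA.1, huZ, hcen ▸ hle⟩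
  have hxC : x ∈ Cen (P : Subgroup G) u := hcen ▸ mem_cen.2 ⟨hx, rfl⟩
  refine ⟨g', u, hot, mul_mem (hu ▸ mem_cj_self.2 h.zmem) hxT, ?_⟩
  set c := u * x with hcd
  have hc : c ∈ Zc (P : Subgroup G) := hot.mul_zc h hxC hxZ
  have hcT : c ∈ cj g' (Zc (P : Subgroup G)) := mul_mem (hu ▸ mem_cj_self.2 h.zmem) hxT
  obtain ⟨t, ht, htC⟩ := h.exists_notMem_cen hot.mem hot.notMem
  obtain ⟨t', -, hside⟩ := hot.side h
  have hzc : z * c ∈ Zc (P : Subgroup G) := mul_mem h.zmem hc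
  have e1 : t' * (z * c) * t'⁻¹ = u * (z * c) :=
    (hside _ (zc_le_cen hot.mem hzc)).2 fun hm => hot.z_notMem h ((mul_mem_cancel_right hcT).1 hm)
  have hA2 : u * (z * c) ∈ Cen (P : Subgroup G) u := mul_mem hot.self_mem (zc_le_cen hot.mem hzc)
  have e2 : t * (u * (z * c)) * t⁻¹ = x := by
    rw [h.conj_of_not_comm ht hA2.1 (h.not_comm hot.mem hot.notMem ht htC hA2 (hot.mul_notMem hzc)),
      ← mul_assoc u z c, h.z_comm hot.mem, mul_assoc z u c, ← mul_assoc z z, h.zsq, one_mul, hcd,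
      ← mul_assoc, hot.sq h, one_mul]
  have e3 : (t * t')⁻¹ * g' * r * ((t * t')⁻¹ * g')⁻¹ = z * c := by
    calc (t * t')⁻¹ * g' * r * ((t * t')⁻¹ * g')⁻¹ = t'⁻¹ * (t⁻¹ * (g' * r * g'⁻¹) * t) * t' := by group
      _ = t'⁻¹ * (t⁻¹ * (t * (t' * (z * c) * t'⁻¹) * t⁻¹) * t) * t' := by rw [e1, e2, hr']
      _ = z * c := by group
  obtain ⟨n, hn, he⟩ := Ci4.burnside hr (g := (t * t')⁻¹ * g') (by rw [e3]; exact hzc)
  exact ⟨n, hn, he.trans e3⟩

theorem Hot.conj_normalizer (h : Ci4 (P : Subgroup G) z) {g u n : G}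
    (hn : n ∈ normalizer ((P : Subgroup G) : Set G)) (hu : Hot (P : Subgroup G) z g u) :
    Hot (P : Subgroup G) z (n * g) (n * u * n⁻¹) := by
  refine ⟨?_, (mem_normalizer_iff.1 hn _).1 hu.mem, fun hc => hu.notMem ?_, ?_⟩
  · rw [← hu.eq]; group
  · have := Ci4.normalizer_zc (inv_mem hn) hc
    rwa [inv_inv, show n⁻¹ * (n * u * n⁻¹) * n = u by group] at this
  · have h1 := cen_cj n (P : Subgroup G) u
    rw [cj_of_normalizer hn] at h1
    rw [← h1, cj_mul]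
    exact Subgroup.map_mono hu.le

/-- The central elements lying in every hot conjugate of the centre. -/
def fusedCore (P : Sylow 2 G) (z : G) : Subgroup G where
  carrier := {c | c ∈ Zc (P : Subgroup G) ∧
    ∀ g u, Hot (P : Subgroup G) z g u → c ∈ cj g (Zc (P : Subgroup G))}
  one_mem' := ⟨one_mem _, fun _ _ _ => one_mem _⟩
  mul_mem' := fun ha hb => ⟨mul_mem ha.1 hb.1, fun g u hu => mul_mem (ha.2 g u hu) (hb.2 g u hu)⟩
  inv_mem' := fun ha => ⟨inv_mem ha.1, fun g u hu => inv_mem (ha.2 g u hu)⟩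

theorem fusedCore_closed (h : Ci4 (P : Subgroup G) z) :
    Cfsg.IsStronglyClosed (fusedCore P z) (P : Subgroup G) := by
  have hinv : ∀ n ∈ normalizer ((P : Subgroup G) : Set G), ∀ r ∈ fusedCore P z,
      n * r * n⁻¹ ∈ fusedCore P z := fun n hn r hr => ⟨Ci4.normalizer_zc hn hr.1, fun g u hu => by
    have h1 := hr.2 _ _ (hu.conj_normalizer h (inv_mem hn))
    rw [cj_mul, mem_cj] at h1
    simpa using h1⟩
  refine ⟨fun x hx => hx.1.1, fun r hr g hg => ?_⟩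
  by_cases hxZ : g * r * g⁻¹ ∈ Zc (P : Subgroup G)
  · obtain ⟨n, hn, he⟩ := Ci4.burnside hr.1 hxZ
    rw [← he]
    exact hinv n hn r hr
  · obtain ⟨g', u, hu, hc, n, hn, he⟩ := fusion h hr.1 hg hxZ rfl
    have h1 := (hinv n hn r hr).2 g' u hu
    rw [he] at h1
    exact absurd ((mul_mem_cancel_right hc).1 h1) (hu.z_notMem h)

/-- The subgroup generated by the conjugates of `z` in `P`. -/
def zGen (P : Sylow 2 G) (z : G) : Subgroup G :=
  closure {x | x ∈ (P : Subgroup G) ∧ ∃ g, g * z * g⁻¹ = x}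

theorem z_mem_zGen (h : Ci4 (P : Subgroup G) z) : z ∈ zGen P z :=
  subset_closure ⟨h.zmemP, 1, by group⟩

theorem zGen_le : zGen P z ≤ (P : Subgroup G) := (closure_le _).2 fun _ hx => hx.1

theorem Hot.mem_zGen {g u : G} (hu : Hot (P : Subgroup G) z g u) : u ∈ zGen P z :=
  subset_closure ⟨hu.mem, g, hu.eq⟩

theorem gen_cases (h : Ci4 (P : Subgroup G) z) {x : G} (hx : x ∈ (P : Subgroup G))
    (hg : ∃ g, g * z * g⁻¹ = x) : x = z ∨ ∃ g, Hot (P : Subgroup G) z g x := by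
  by_cases hne : x = z
  · exact Or.inl hne
  · obtain ⟨g, hg⟩ := hg
    exact Or.inr (exists_hot h hg hx hne)

/-- A list closed under the generators contains `zGen P z`. -/
theorem zGen_cases (h : Ci4 (P : Subgroup G) z) (W : G → Prop) (h1 : W 1)
    (hmul : ∀ g u, Hot (P : Subgroup G) z g u → ∀ w, W w → ∃ w', W w' ∧ (u * w = w' ∨ u * w = z * w'))
    {d : G} (hd : d ∈ zGen P z) : ∃ w, W w ∧ (d = w ∨ d = z * w) := by
  have step : ∀ x, x ∈ (P : Subgroup G) → (∃ g, g * z * g⁻¹ = x) → ∀ y : G,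
      (∃ w, W w ∧ (y = w ∨ y = z * w)) → ∃ w, W w ∧ (x * y = w ∨ x * y = z * w) := by
    intro x hx hg y ⟨w, hw, hy⟩
    rcases gen_cases h hx hg with rfl | ⟨g', hot⟩
    · rcases hy with rfl | rfl
      · exact ⟨_, hw, Or.inr rfl⟩
      · exact ⟨_, hw, Or.inl (by rw [← mul_assoc, h.zsq, one_mul])⟩
    · obtain ⟨w', hw', he⟩ := hmul g' x hot w hw
      refine ⟨w', hw', ?_⟩
      rcases hy with rfl | rfl
      · exact he
      · rw [← mul_assoc, h.z_comm hot.mem, mul_assoc]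
        rcases he with he | he
        · exact Or.inr (by rw [he])
        · exact Or.inl (by rw [he, ← mul_assoc, h.zsq, one_mul])
  induction hd using closure_induction_left with
  | one => exact ⟨1, h1, Or.inl rfl⟩
  | mul_left x hx y hy ih => exact step x hx.1 hx.2 y ih
  | inv_mul_cancel x hx y hy ih =>
    have hi : x⁻¹ = x := by
      obtain ⟨g, rfl⟩ := hx.2
      exact inv_eq_of_mul_eq_one_right ((h.conj g).zsq)
    rw [hi]
    exact step x hx.1 hx.2 y ih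

/-- All hot elements lie in one centralizer. -/
theorem one_case (h : Ci4 (P : Subgroup G) z) {g₁ u₁ : G} (h1 : Hot (P : Subgroup G) z g₁ u₁)
    (hall : ∀ g u, Hot (P : Subgroup G) z g u → Cen (P : Subgroup G) u = Cen (P : Subgroup G) u₁) :
    (∀ d ∈ zGen P z, d ∈ Zc (P : Subgroup G) → d = 1 ∨ d = z) ∧
      Cfsg.IsStronglyClosed (zGen P z) (P : Subgroup G) := by
  have hD : ∀ d ∈ zGen P z, ∃ w, (w = 1 ∨ w = u₁) ∧ (d = w ∨ d = z * w) := fun d hd => by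
    refine zGen_cases h (fun w => w = 1 ∨ w = u₁) (Or.inl rfl) (fun g u hu w hw => ?_) hd
    rcases (h1.pair h hu (hall g u hu)).1 with rfl | rfl <;> rcases hw with rfl | rfl
    · exact ⟨_, Or.inr rfl, Or.inl (mul_one _)⟩
    · exact ⟨1, Or.inl rfl, Or.inl (h1.sq h)⟩
    · exact ⟨u₁, Or.inr rfl, Or.inr (mul_one _)⟩
    · exact ⟨1, Or.inl rfl, Or.inr (by rw [mul_assoc, h1.sq h])⟩
  refine ⟨fun d hd hdZ => ?_, zGen_le, fun d hd g hg => ?_⟩
  · obtain ⟨w, rfl | rfl, rfl | rfl⟩ := hD d hd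
    · exact Or.inl rfl
    · exact Or.inr (mul_one _)
    · exact absurd hdZ h1.notMem
    · exact absurd ((mul_mem_cancel_left h.zmem).1 hdZ) h1.notMem
  · obtain ⟨t, ht, -⟩ := h1.partner h
    have gen : ∀ k : G, k * z * k⁻¹ = d → g * d * g⁻¹ ∈ zGen P z := fun k hk =>
      subset_closure ⟨hg, g * k, by rw [← hk]; group⟩
    obtain ⟨w, rfl | rfl, rfl | rfl⟩ := hD d hd
    · simp
    · exact gen 1 (by group)
    · exact gen g₁ h1.eq
    · exact gen t ht.eq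

section two

variable {g₁ g₂ u₁ u₂ : G} (h : Ci4 (P : Subgroup G) z) (h1 : Hot (P : Subgroup G) z g₁ u₁)
  (h2 : Hot (P : Subgroup G) z g₂ u₂) (hne : Cen (P : Subgroup G) u₂ ≠ Cen (P : Subgroup G) u₁)

include h h1 h2 hne

theorem swap_mul : u₂ * u₁ = z * (u₁ * u₂) := by
  rcases h.comm u₂ h2.mem u₁ h1.mem with h3 | h3
  · exact absurd (h.cen_eq h1.mem h1.notMem (mem_cen.2 ⟨h2.mem, h3⟩) h2.notMem) hne
  · exact h3

theorem prod_notMem : u₁ * u₂ ∉ Zc (P : Subgroup G) := fun hc => by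
  have h3 := mul_comm_of_zc hc h1.mem
  rw [← mul_assoc, h1.sq h, one_mul, mul_assoc, swap_mul h h1 h2 hne, ← mul_assoc u₁ z,
    h.z_comm h1.mem, mul_assoc z u₁, ← mul_assoc u₁ u₁, h1.sq h, one_mul] at h3
  exact h.zne (mul_eq_right.1 h3.symm)

theorem prod_sq : u₁ * u₂ * (u₁ * u₂) = z := by
  rw [mul_assoc, ← mul_assoc u₂ u₁ u₂, swap_mul h h1 h2 hne, mul_assoc z, mul_assoc u₁ u₂, h2.sq h,
    mul_one, ← mul_assoc, h.z_comm h1.mem, mul_assoc, h1.sq h, mul_one]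

theorem prod_comm {x : G} (hx : x ∈ (P : Subgroup G)) (hx1 : x * u₁ ≠ u₁ * x)
    (hx2 : x * u₂ ≠ u₂ * x) : x * (u₁ * u₂) = u₁ * u₂ * x := by
  have e1 := (h.comm x hx u₁ h1.mem).resolve_left hx1
  have e2 := (h.comm x hx u₂ h2.mem).resolve_left hx2
  rw [← mul_assoc, e1, mul_assoc z, mul_assoc u₁ x, e2, ← mul_assoc u₁ z, h.z_comm h1.mem,
    mul_assoc z u₁, ← mul_assoc z z, h.zsq, one_mul, mul_assoc]

/-- There are at most two classes of hot elements. -/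
theorem hot_cases {g u : G} (hu : Hot (P : Subgroup G) z g u) :
    Cen (P : Subgroup G) u = Cen (P : Subgroup G) u₁ ∨ Cen (P : Subgroup G) u = Cen (P : Subgroup G) u₂ := by
  by_contra! hno
  have e1 : u * u₁ ≠ u₁ * u := fun he => hno.1 (h.cen_eq h1.mem h1.notMem (mem_cen.2 ⟨hu.mem, he⟩) hu.notMem)
  have e2 : u * u₂ ≠ u₂ * u := fun he => hno.2 (h.cen_eq h2.mem h2.notMem (mem_cen.2 ⟨hu.mem, he⟩) hu.notMem)
  set s := u₁ * u₂ with hs
  have hsP : s ∈ (P : Subgroup G) := mul_mem h1.mem h2.mem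
  have hc : s⁻¹ * u ∈ Zc (P : Subgroup G) :=
    (h.cen_cases hsP (prod_notMem h h1 h2 hne) (mem_cen.2 ⟨hu.mem, prod_comm h h1 h2 hne hu.mem e1 e2⟩)).resolve_left
      hu.notMem
  refine hu.z_not_sq h hc ?_
  have h3 : s * s = z := prod_sq h h1 h2 hne
  have h4 : s * (s⁻¹ * u) * (s * (s⁻¹ * u)) = 1 := by rw [mul_inv_cancel_left, hu.sq h]
  have h5 : Commute s (s⁻¹ * u) := mul_comm_of_zc hc hsP
  rw [h5.symm.mul_mul_mul_comm, h3] at h4
  rw [← mul_left_cancel_iff (a := z), h4, h.zsq]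

theorem hot_values {g u : G} (hu : Hot (P : Subgroup G) z g u) :
    u = u₁ ∨ u = z * u₁ ∨ u = u₂ ∨ u = z * u₂ := by
  rcases hot_cases h h1 h2 hne hu with h3 | h3
  · rcases (h1.pair h hu h3).1 with h4 | h4
    · exact Or.inl h4
    · exact Or.inr (Or.inl h4)
  · rcases (h2.pair h hu h3).1 with h4 | h4
    · exact Or.inr (Or.inr (Or.inl h4))
    · exact Or.inr (Or.inr (Or.inr h4))

theorem two_mem {d : G} (hd : d ∈ zGen P z) :
    ∃ w, (w = 1 ∨ w = u₁ ∨ w = u₂ ∨ w = u₁ * u₂) ∧ (d = w ∨ d = z * w) := by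
  have hs := swap_mul h h1 h2 hne
  have h12 : u₂ * (u₁ * u₂) = z * u₁ := by
    rw [← mul_assoc, hs, mul_assoc, mul_assoc, h2.sq h, mul_one]
  refine zGen_cases h (fun w => w = 1 ∨ w = u₁ ∨ w = u₂ ∨ w = u₁ * u₂) (Or.inl rfl)
    (fun g u hu w hw => ?_) hd
  have key : ∀ v : G, (∃ w', (w' = 1 ∨ w' = u₁ ∨ w' = u₂ ∨ w' = u₁ * u₂) ∧ (v = w' ∨ v = z * w')) →
      ∃ w', (w' = 1 ∨ w' = u₁ ∨ w' = u₂ ∨ w' = u₁ * u₂) ∧ (z * v = w' ∨ z * v = z * w') := by
    rintro v ⟨w', hw', rfl | rfl⟩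
    · exact ⟨_, hw', Or.inr rfl⟩
    · exact ⟨_, hw', Or.inl (by rw [← mul_assoc, h.zsq, one_mul])⟩
  have b1 : ∃ w', (w' = 1 ∨ w' = u₁ ∨ w' = u₂ ∨ w' = u₁ * u₂) ∧ (u₁ * w = w' ∨ u₁ * w = z * w') := by
    rcases hw with rfl | rfl | rfl | rfl
    · exact ⟨_, Or.inr (Or.inl rfl), Or.inl (mul_one _)⟩
    · exact ⟨_, Or.inl rfl, Or.inl (h1.sq h)⟩
    · exact ⟨_, Or.inr (Or.inr (Or.inr rfl)), Or.inl rfl⟩
    · exact ⟨_, Or.inr (Or.inr (Or.inl rfl)), Or.inl (by rw [← mul_assoc, h1.sq h, one_mul])⟩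
  have b2 : ∃ w', (w' = 1 ∨ w' = u₁ ∨ w' = u₂ ∨ w' = u₁ * u₂) ∧ (u₂ * w = w' ∨ u₂ * w = z * w') := by
    rcases hw with rfl | rfl | rfl | rfl
    · exact ⟨_, Or.inr (Or.inr (Or.inl rfl)), Or.inl (mul_one _)⟩
    · exact ⟨_, Or.inr (Or.inr (Or.inr rfl)), Or.inr hs⟩
    · exact ⟨_, Or.inl rfl, Or.inl (h2.sq h)⟩
    · exact ⟨_, Or.inr (Or.inl rfl), Or.inr h12⟩
  rcases hot_values h h1 h2 hne hu with rfl | rfl | rfl | rfl
  · exact b1
  · rw [mul_assoc]; exact key _ b1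
  · exact b2
  · rw [mul_assoc]; exact key _ b2

theorem two_zc {d : G} (hd : d ∈ zGen P z) (hdZ : d ∈ Zc (P : Subgroup G)) : d = 1 ∨ d = z := by
  obtain ⟨w, hw, hd'⟩ := two_mem h h1 h2 hne hd
  have hwZ : w ∈ Zc (P : Subgroup G) := by
    rcases hd' with rfl | rfl
    · exact hdZ
    · exact (mul_mem_cancel_left h.zmem).1 hdZ
  rcases hw with rfl | rfl | rfl | rfl
  · rcases hd' with rfl | rfl
    · exact Or.inl rfl
    · exact Or.inr (mul_one _)
  · exact absurd hwZ h1.notMem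
  · exact absurd hwZ h2.notMem
  · exact absurd hwZ (prod_notMem h h1 h2 hne)

end two

end Cfsg.Lib.CentreIndexFour
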