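import Cfsg.Agent.Lib.CentreIndexFour.Basic
import Cfsg.Agent.Lib.Fusion.Abelian

/-!
# Fusion of the derived involution of a Sylow 2-subgroup with centre of index four

`Hot P z g u`: the conjugate `u = g z g⁻¹` is a noncentral element of `P` and `C_P(u)` lies in `g P g⁻¹`.
-/

set_option autoImplicit false
set_option linter.unusedSectionVars false
set_option linter.style.haveILetI false

namespace Cfsg.Lib.CentreIndexFour

open Subgroup

variable {G : Type*} [Group G] [Finite G]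

namespace Ci4

variable {P : Subgroup G} {z : G}

theorem exists_noncentral (h : Ci4 P z) : ∃ a ∈ P, a ∉ Zc P := by
  by_contra! hh
  have := Subgroup.card_le_of_le (show P ≤ Zc P from hh)
  have hp : 0 < Nat.card (Zc P) := Nat.card_pos
  have := h.card
  omega

theorem act_eq (h : Ci4 P z) {a t t' x : G} (ha : a ∈ P) (haZ : a ∉ Zc P) (ht : t ∈ P) (htC : t ∉ Cen P a)
    (ht' : t' ∈ P) (htC' : t' ∉ Cen P a) (hx : x ∈ Cen P a) : t * x * t⁻¹ = t' * x * t'⁻¹ := by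
  by_cases hxZ : x ∈ Zc P
  · rw [(mem_zc.1 hxZ).2 t ht, (mem_zc.1 hxZ).2 t' ht', mul_inv_cancel_right, mul_inv_cancel_right]
  · rw [h.conj_of_not_comm ht hx.1 (h.not_comm ha haZ ht htC hx hxZ),
      h.conj_of_not_comm ht' hx.1 (h.not_comm ha haZ ht' htC' hx hxZ)]

theorem zc_iff_fix (h : Ci4 P z) {a t x : G} (ha : a ∈ P) (haZ : a ∉ Zc P) (ht : t ∈ P)
    (htC : t ∉ Cen P a) (hx : x ∈ Cen P a) : x ∈ Zc P ↔ t * x * t⁻¹ = x := by
  refine ⟨fun hxZ => by rw [(mem_zc.1 hxZ).2 t ht, mul_inv_cancel_right], fun h1 => ?_⟩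
  by_contra hxZ
  exact h.not_comm ha haZ ht htC hx hxZ (mul_inv_eq_iff_eq_mul.1 h1)

theorem conj_mem_cen (h : Ci4 P z) {a t x : G} (ha : a ∈ P) (ht : t ∈ P) (hx : x ∈ Cen P a) :
    t * x * t⁻¹ ∈ Cen P a := by
  rcases h.conj_eq ht hx.1 with h1 | h1
  · rwa [h1.1]
  · rw [h1.1]; exact mul_mem (zc_le_cen ha h.zmem) hx

theorem normalizer_cen (h : Ci4 P z) {a : G} (ha : a ∈ P) : P ≤ normalizer (Cen P a : Set G) :=
  fun _ ht => Cfsg.Lib.Fusion.le_normalizer_of_conj_mem fun _ hx => h.conj_mem_cen ha ht hx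

/-- `C_P(a)` inside a conjugate of `P` is a centralizer there as well. -/
theorem lift (h : Ci4 P z) {a g : G} (ha : a ∈ P) (haZ : a ∉ Zc P) (hle : Cen P a ≤ cj g P) :
    ∃ b ∈ Cen P a, b ∈ cj g P ∧ b ∉ Zc (cj g P) ∧ Cen P a = Cen (cj g P) b := by
  obtain ⟨b, hb, hbZ, he⟩ := (h.conj g).eq_cen hle (fun x hx y hy => h.cen_comm ha haZ hx hy)
    (by rw [h.card_cen ha haZ, zc_cj, card_cj])
  exact ⟨b, hb, hle hb, hbZ, he⟩

theorem cj_zc_le (h : Ci4 P z) {a g : G} (ha : a ∈ P) (haZ : a ∉ Zc P) (hle : Cen P a ≤ cj g P) :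
    cj g (Zc P) ≤ Cen P a := by
  obtain ⟨b, -, hbT, -, he⟩ := h.lift ha haZ hle
  rw [he, ← zc_cj]
  exact zc_le_cen hbT

end Ci4

variable {P : Sylow 2 G} {z : G}

theorem cj_of_normalizer {n : G} (hn : n ∈ normalizer ((P : Subgroup G) : Set G)) :
    cj n (P : Subgroup G) = (P : Subgroup G) := by
  ext x
  rw [mem_cj]
  have := mem_normalizer_iff.1 (inv_mem hn) x
  rw [inv_inv] at this
  exact this.symm

namespace Ci4

theorem normalizer_conj_z (h : Ci4 (P : Subgroup G) z) {n : G}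
    (hn : n ∈ normalizer ((P : Subgroup G) : Set G)) : n * z * n⁻¹ = z := by
  have h' : Ci4 (P : Subgroup G) (n * z * n⁻¹) := cj_of_normalizer hn ▸ h.conj n
  obtain ⟨a, ha, haZ⟩ := h.exists_noncentral
  obtain ⟨t, ht, htC⟩ := h.exists_notMem_cen ha haZ
  have hne : t * a ≠ a * t := fun h1 => htC (mem_cen.2 ⟨ht, h1⟩)
  have h1 := h'.conj_of_not_comm ht ha hne
  rw [h.conj_of_not_comm ht ha hne] at h1
  exact (mul_right_cancel h1).symm

theorem normalizer_zc {n x : G} (hn : n ∈ normalizer ((P : Subgroup G) : Set G))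
    (hx : x ∈ Zc (P : Subgroup G)) : n * x * n⁻¹ ∈ Zc (P : Subgroup G) := by
  have : n * x * n⁻¹ ∈ cj n (Zc (P : Subgroup G)) := mem_cj.2 (by simpa [mul_assoc] using hx)
  rwa [← zc_cj, cj_of_normalizer hn] at this

theorem burnside {r g : G} (hr : r ∈ Zc (P : Subgroup G)) (hg : g * r * g⁻¹ ∈ Zc (P : Subgroup G)) :
    ∃ n ∈ normalizer ((P : Subgroup G) : Set G), n * r * n⁻¹ = g * r * g⁻¹ := by
  haveI : Fact (Nat.Prime 2) := ⟨Nat.prime_two⟩
  obtain ⟨n, hn, he⟩ := P.conj_eq_normalizer_conj_of_mem_centralizer r g⁻¹ hr.2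
    (by rw [inv_inv]; exact hg.2)
  refine ⟨n⁻¹, inv_mem hn, ?_⟩
  rw [inv_inv] at *
  exact he.symm

theorem eq_z_of_conj (h : Ci4 (P : Subgroup G) z) {g : G} (hg : g * z * g⁻¹ ∈ Zc (P : Subgroup G)) :
    g * z * g⁻¹ = z := by
  obtain ⟨n, hn, he⟩ := burnside h.zmem hg
  rw [← he, h.normalizer_conj_z hn]

/-- A 2-element of `N(A)` commuting on `A` with `t` acts as `1` or as `t`. -/
theorem key (h : Ci4 (P : Subgroup G) z) {a t w : G} (ha : a ∈ P) (haZ : a ∉ Zc (P : Subgroup G))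
    (ht : t ∈ P) (htC : t ∉ Cen (P : Subgroup G) a)
    (hw : w ∈ normalizer (Cen (P : Subgroup G) a : Set G)) {k : ℕ}
    (hk : ∀ x ∈ Cen (P : Subgroup G) a, w ^ 2 ^ k * x * (w ^ 2 ^ k)⁻¹ = x)
    (hcom : ∀ x ∈ Cen (P : Subgroup G) a, w * (t * x * t⁻¹) * w⁻¹ = t * (w * x * w⁻¹) * t⁻¹) :
    (∀ x ∈ Cen (P : Subgroup G) a, w * x * w⁻¹ = x) ∨
      ∀ x ∈ Cen (P : Subgroup G) a, w * x * w⁻¹ = t * x * t⁻¹ := by
  haveI : Fact (Nat.Prime 2) := ⟨Nat.prime_two⟩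
  set A := Cen (P : Subgroup G) a with hA
  set φ := A.normalizerMonoidHom with hφd
  have hφ : ∀ (n : normalizer (A : Set G)) (x : A), ((φ n x : A) : G) = (n : G) * x * (n : G)⁻¹ :=
    fun _ _ => rfl
  have hle := h.normalizer_cen ha
  set S : Sylow 2 φ.range := (P.subtype hle).mapSurjective φ.rangeRestrict_surjective with hS
  have hSmem : ∀ s ∈ (S : Subgroup φ.range), ∃ p, ∃ hp : p ∈ (P : Subgroup G),
      φ.rangeRestrict ⟨p, hle hp⟩ = s := by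
    intro s hs
    rw [hS, Sylow.coe_mapSurjective] at hs
    obtain ⟨n, hn, rfl⟩ := hs
    exact ⟨n.1, hn, rfl⟩
  set ω := φ.rangeRestrict ⟨w, hw⟩ with hωd
  have hfix : ∀ p ∈ A, ∀ x ∈ A, p * x * p⁻¹ = x := fun p hp x hx => by
    rw [h.cen_comm ha haZ hp hx, mul_inv_cancel_right]
  have hω : IsPGroup 2 (zpowers ω) := by
    have h1 : ω ^ 2 ^ k = 1 := by
      rw [hωd, ← map_pow]
      refine Subtype.ext (MulEquiv.ext fun x => Subtype.ext ?_)
      exact hk x x.2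
    obtain ⟨j, -, hj⟩ := (Nat.dvd_prime_pow Nat.prime_two).1 (orderOf_dvd_of_pow_eq_one h1)
    exact IsPGroup.of_card (by rw [Nat.card_zpowers, hj])
  have hnorm : zpowers ω ≤ normalizer ((S : Subgroup φ.range) : Set φ.range) := by
    rw [zpowers_le]
    refine centralizer_le_normalizer _ (mem_centralizer_iff.2 fun s hs => ?_)
    obtain ⟨p, hp, rfl⟩ := hSmem s hs
    rw [hωd, ← map_mul, ← map_mul]
    refine Subtype.ext (MulEquiv.ext fun x => Subtype.ext ?_)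
    show p * w * (x : G) * (p * w)⁻¹ = w * p * x * (w * p)⁻¹
    have h2 : p * (w * x * w⁻¹) * p⁻¹ = w * (p * x * p⁻¹) * w⁻¹ := by
      have hwx : w * x * w⁻¹ ∈ A := (mem_normalizer_iff.1 hw _).1 x.2
      by_cases hpA : p ∈ A
      · rw [hfix p hpA _ hwx, hfix p hpA _ x.2]
      · rw [h.act_eq ha haZ hp hpA ht htC hwx, h.act_eq ha haZ hp hpA ht htC x.2, hcom _ x.2]
    calc p * w * (x : G) * (p * w)⁻¹ = p * (w * x * w⁻¹) * p⁻¹ := by group
      _ = w * (p * x * p⁻¹) * w⁻¹ := h2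
      _ = _ := by group
  have hsup := hω.to_sup_of_normal_right' S.2 hnorm
  have hωS : ω ∈ (S : Subgroup φ.range) := by
    have h1 : zpowers ω ⊔ (S : Subgroup φ.range) = S := S.3 hsup le_sup_right
    rw [← h1]
    exact mem_sup_left (mem_zpowers ω)
  obtain ⟨p, hp, he⟩ := hSmem ω hωS
  have he' : ∀ x ∈ A, p * x * p⁻¹ = w * x * w⁻¹ := fun x hx => by
    have h1 := congrArg (fun f : φ.range => (((f : MulAut A) ⟨x, hx⟩ : A) : G)) he
    exact h1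
  by_cases hpA : p ∈ A
  · exact Or.inl fun x hx => by rw [← he' x hx, hfix p hpA x hx]
  · exact Or.inr fun x hx => by rw [← he' x hx, h.act_eq ha haZ hp hpA ht htC hx]

/-- A conjugate of `P` through `C_P(a)` with the same `z` has the same centre. -/
theorem same (h : Ci4 (P : Subgroup G) z) {a g : G} (ha : a ∈ P) (haZ : a ∉ Zc (P : Subgroup G))
    (hle : Cen (P : Subgroup G) a ≤ cj g (P : Subgroup G)) (hz : g * z * g⁻¹ = z) :
    cj g (Zc (P : Subgroup G)) = Zc (P : Subgroup G) := by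
  have h' : Ci4 (cj g (P : Subgroup G)) z := by simpa only [hz] using h.conj g
  obtain ⟨b, hbA, hbT, hbZ, he⟩ := h.lift ha haZ hle
  obtain ⟨t, ht, htC⟩ := h.exists_notMem_cen ha haZ
  obtain ⟨t', ht', htC'⟩ := h'.exists_notMem_cen hbT hbZ
  have hw : t' ∈ normalizer (Cen (P : Subgroup G) a : Set G) := he ▸ h'.normalizer_cen hbT ht'
  have hk : ∀ x ∈ Cen (P : Subgroup G) a, t' ^ 2 ^ 1 * x * (t' ^ 2 ^ 1)⁻¹ = x := fun x hx => by
    rw [he] at hx
    rw [pow_one, pow_two, ← (mem_zc.1 (h'.sq _ ht')).2 x hx.1, mul_inv_cancel_right]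
  have hcom : ∀ x ∈ Cen (P : Subgroup G) a,
      t' * (t * x * t⁻¹) * t'⁻¹ = t * (t' * x * t'⁻¹) * t⁻¹ := fun x hx => by
    have hx' := hx
    rw [he] at hx'
    have hz1 : t' * z * t'⁻¹ = z := by rw [h'.z_comm ht', mul_inv_cancel_right]
    have hz2 : t * z * t⁻¹ = z := by rw [h.z_comm ht, mul_inv_cancel_right]
    rcases h.conj_eq ht hx.1 with h1 | h1 <;> rcases h'.conj_eq ht' hx'.1 with h2 | h2 <;>
      simp only [h1.1, h2.1]
    · rw [← conj_mul, hz2, h1.1]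
    · rw [← conj_mul, hz1, h2.1]
    · rw [← conj_mul, hz1, h2.1, ← conj_mul, hz2, h1.1]
  rcases h.key ha haZ ht htC hw hk hcom with h1 | h1
  · exact absurd (mul_inv_eq_iff_eq_mul.1 (h1 b hbA))
      (h'.not_comm hbT hbZ ht' htC' (he ▸ hbA) hbZ)
  · rw [← zc_cj]
    ext x
    constructor
    · intro hx
      have hxA : x ∈ Cen (P : Subgroup G) a := he.symm ▸ zc_le_cen hbT hx
      rw [h.zc_iff_fix ha haZ ht htC hxA, ← h1 x hxA]
      exact (h'.zc_iff_fix hbT hbZ ht' htC' (he ▸ hxA)).1 hx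
    · intro hx
      have hxA : x ∈ Cen (P : Subgroup G) a := zc_le_cen ha hx
      rw [h'.zc_iff_fix hbT hbZ ht' htC' (he ▸ hxA), h1 x hxA]
      exact (h.zc_iff_fix ha haZ ht htC hxA).1 hx

end Ci4

/-- `u = g z g⁻¹` is noncentral in `P` and `C_P(u) ≤ g P g⁻¹`. -/
structure Hot (P : Subgroup G) (z g u : G) : Prop where
  eq : g * z * g⁻¹ = u
  mem : u ∈ P
  notMem : u ∉ Zc P
  le : Cen P u ≤ cj g P

namespace Hot

variable {g g₁ g₂ u u₁ u₂ : G}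

theorem sq (h : Ci4 (P : Subgroup G) z) (hu : Hot (P : Subgroup G) z g u) : u * u = 1 := by
  rw [← hu.eq]; exact (h.conj g).zsq

theorem inv_eq (h : Ci4 (P : Subgroup G) z) (hu : Hot (P : Subgroup G) z g u) : u⁻¹ = u :=
  inv_eq_of_mul_eq_one_right (hu.sq h)

theorem self_mem (hu : Hot (P : Subgroup G) z g u) : u ∈ Cen (P : Subgroup G) u :=
  mem_cen.2 ⟨hu.mem, rfl⟩

theorem z_notMem (h : Ci4 (P : Subgroup G) z) (hu : Hot (P : Subgroup G) z g u) :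
    z ∉ cj g (Zc (P : Subgroup G)) := fun hc => by
  rw [mem_cj] at hc
  have h1 := h.eq_z_of_conj (g := g⁻¹) (by rwa [inv_inv])
  rw [inv_inv] at h1
  apply hu.notMem
  have h2 : g * z * g⁻¹ = z := by
    calc g * z * g⁻¹ = g * (g⁻¹ * z * g) * g⁻¹ := by rw [h1]
      _ = z := by group
  rw [← hu.eq, h2]
  exact h.zmem

/-- An element of `g P g⁻¹` outside `C_P(u)`. -/
theorem side (h : Ci4 (P : Subgroup G) z) (hu : Hot (P : Subgroup G) z g u) :
    ∃ t ∈ normalizer (Cen (P : Subgroup G) u : Set G), ∀ x ∈ Cen (P : Subgroup G) u,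
      (x ∈ cj g (Zc (P : Subgroup G)) → t * x * t⁻¹ = x) ∧
        (x ∉ cj g (Zc (P : Subgroup G)) → t * x * t⁻¹ = u * x) := by
  obtain ⟨b, -, hbT, hbZ, he⟩ := h.lift hu.mem hu.notMem hu.le
  have h' := h.conj g
  rw [hu.eq] at h'
  obtain ⟨t, ht, htC⟩ := h'.exists_notMem_cen hbT hbZ
  refine ⟨t, he ▸ h'.normalizer_cen hbT ht, fun x hx => ?_⟩
  rw [he] at hx
  rw [← zc_cj]
  exact ⟨fun hxZ => (h'.zc_iff_fix hbT hbZ ht htC hx).1 hxZ,
    fun hxZ => h'.conj_of_not_comm ht hx.1 (h'.not_comm hbT hbZ ht htC hx hxZ)⟩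

theorem zc_le (h : Ci4 (P : Subgroup G) z) (hu : Hot (P : Subgroup G) z g u) :
    cj g (Zc (P : Subgroup G)) ≤ Cen (P : Subgroup G) u :=
  h.cj_zc_le hu.mem hu.notMem hu.le

theorem mul_zc (h : Ci4 (P : Subgroup G) z) (hu : Hot (P : Subgroup G) z g u) {x : G}
    (hx : x ∈ Cen (P : Subgroup G) u) (hxZ : x ∉ Zc (P : Subgroup G)) :
    u * x ∈ Zc (P : Subgroup G) := by
  have h1 := (h.cen_cases hu.mem hu.notMem hx).resolve_left hxZ
  rwa [hu.inv_eq h] at h1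

theorem mul_notMem (hu : Hot (P : Subgroup G) z g u) {c : G} (hc : c ∈ Zc (P : Subgroup G)) :
    u * c ∉ Zc (P : Subgroup G) := fun hc' => hu.notMem ((mul_mem_cancel_right hc).1 hc')

/-- The other conjugate of `z` in `C_P(u)`. -/
theorem partner (h : Ci4 (P : Subgroup G) z) (hu : Hot (P : Subgroup G) z g u) :
    ∃ t, Hot (P : Subgroup G) z t (z * u) ∧ Cen (P : Subgroup G) (z * u) = Cen (P : Subgroup G) u ∧
      t ∈ normalizer (Cen (P : Subgroup G) u : Set G) ∧ ∀ x ∈ Cen (P : Subgroup G) u,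
        (x ∈ cj g (Zc (P : Subgroup G)) → t * x * t⁻¹ = x) ∧
          (x ∉ cj g (Zc (P : Subgroup G)) → t * x * t⁻¹ = u * x) := by
  obtain ⟨t, htN, ht⟩ := hu.side h
  have hzC := zc_le_cen hu.mem h.zmem
  have hmem : z * u ∈ Cen (P : Subgroup G) u := mul_mem hzC hu.self_mem
  have hnot : z * u ∉ Zc (P : Subgroup G) := fun hc => hu.notMem ((mul_mem_cancel_left h.zmem).1 hc)
  have hcen := h.cen_eq hu.mem hu.notMem hmem hnot
  refine ⟨t, ⟨?_, hmem.1, hnot, ?_⟩, hcen, htN, ht⟩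
  · rw [(ht z hzC).2 (hu.z_notMem h), h.z_comm hu.mem]
  · intro x hx
    rw [hcen] at hx
    exact mem_cj.2 ((mem_normalizer_iff''.1 htN x).1 hx).1

theorem cj_eq_of_eq (h : Ci4 (P : Subgroup G) z) (h1 : Hot (P : Subgroup G) z g₁ u)
    (h2 : Hot (P : Subgroup G) z g₂ u) : cj g₂ (Zc (P : Subgroup G)) = cj g₁ (Zc (P : Subgroup G)) := by
  obtain ⟨b, -, hbT, hbZ, he⟩ := h.lift h1.mem h1.notMem h1.le
  have hb' : g₁⁻¹ * b * g₁ ∈ (P : Subgroup G) := mem_cj.1 hbT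
  have hbZ' : g₁⁻¹ * b * g₁ ∉ Zc (P : Subgroup G) := fun hc => hbZ (by rw [zc_cj]; exact mem_cj.2 hc)
  have hle : Cen (P : Subgroup G) (g₁⁻¹ * b * g₁) ≤ cj (g₁⁻¹ * g₂) (P : Subgroup G) := by
    intro x hx
    have hx' : g₁ * x * g₁⁻¹ ∈ cj g₁ (Cen (P : Subgroup G) (g₁⁻¹ * b * g₁)) :=
      mem_cj.2 (by simpa [mul_assoc] using hx)
    rw [cen_cj, show g₁ * (g₁⁻¹ * b * g₁) * g₁⁻¹ = b by group, ← he] at hx'
    have h3 := mem_cj.1 (h2.le hx')
    exact mem_cj.2 (by simpa [mul_assoc] using h3)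
  have hz : g₁⁻¹ * g₂ * z * (g₁⁻¹ * g₂)⁻¹ = z := by
    calc g₁⁻¹ * g₂ * z * (g₁⁻¹ * g₂)⁻¹ = g₁⁻¹ * (g₂ * z * g₂⁻¹) * g₁ := by group
      _ = g₁⁻¹ * (g₁ * z * g₁⁻¹) * g₁ := by rw [h2.eq, h1.eq]
      _ = z := by group
  have h4 := h.same hb' hbZ' hle hz
  conv_rhs => rw [← h4, ← cj_mul, mul_inv_cancel_left]

theorem pair (h : Ci4 (P : Subgroup G) z) (h1 : Hot (P : Subgroup G) z g₁ u₁)
    (h2 : Hot (P : Subgroup G) z g₂ u₂) (hc : Cen (P : Subgroup G) u₂ = Cen (P : Subgroup G) u₁) :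
    (u₂ = u₁ ∨ u₂ = z * u₁) ∧ ∀ x ∈ Zc (P : Subgroup G),
      (x ∈ cj g₁ (Zc (P : Subgroup G)) ↔ x ∈ cj g₂ (Zc (P : Subgroup G))) := by
  obtain ⟨t, ht, -, htN, hact⟩ := h1.partner h
  have hu2 : u₂ ∈ Cen (P : Subgroup G) u₁ := hc ▸ h2.self_mem
  have hval : u₂ = u₁ ∨ u₂ = z * u₁ := by
    by_cases hm : u₂ ∈ cj g₁ (Zc (P : Subgroup G))
    · left
      rw [mem_cj, ← h2.eq] at hm
      have h3 := h.eq_z_of_conj (g := g₁⁻¹ * g₂) (by simpa [mul_assoc] using hm)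
      rw [← h2.eq, ← h1.eq]
      calc g₂ * z * g₂⁻¹ = g₁ * (g₁⁻¹ * g₂ * z * (g₁⁻¹ * g₂)⁻¹) * g₁⁻¹ := by group
        _ = g₁ * z * g₁⁻¹ := by rw [h3]
    · right
      have h3 : t * u₂ * t⁻¹ ∈ Zc (P : Subgroup G) := by
        rw [(hact u₂ hu2).2 hm]; exact h1.mul_zc h hu2 h2.notMem
      rw [← h2.eq, show t * (g₂ * z * g₂⁻¹) * t⁻¹ = t * g₂ * z * (t * g₂)⁻¹ by group] at h3
      have h4 := h.eq_z_of_conj h3
      have h5 : t * u₂ * t⁻¹ = z := by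
        rw [← h2.eq]
        calc t * (g₂ * z * g₂⁻¹) * t⁻¹ = t * g₂ * z * (t * g₂)⁻¹ := by group
          _ = z := h4
      rw [(hact u₂ hu2).2 hm] at h5
      rw [← h.z_comm h1.mem]
      conv_rhs => rw [← h5, ← mul_assoc, h1.sq h, one_mul]
  refine ⟨hval, fun x hx => ?_⟩
  rcases hval with rfl | rfl
  · rw [h1.cj_eq_of_eq h h2]
  rw [ht.cj_eq_of_eq h h2]
  have hxC : x ∈ Cen (P : Subgroup G) u₁ := zc_le_cen h1.mem hx
  constructor
  · intro hm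
    rw [mem_cj]
    have h3 := (hact x hxC).1 hm
    have h4 : t⁻¹ * x * t = x := by
      calc t⁻¹ * x * t = t⁻¹ * (t * x * t⁻¹) * t := by rw [h3]
        _ = x := by group
    rwa [h4]
  · intro hm
    by_contra hm1
    rw [mem_cj] at hm
    have hyC : t⁻¹ * x * t ∈ Cen (P : Subgroup G) u₁ := zc_le_cen h1.mem hm
    have he : x = t * (t⁻¹ * x * t) * t⁻¹ := by group
    by_cases hy : t⁻¹ * x * t ∈ cj g₁ (Zc (P : Subgroup G))
    · rw [(hact _ hyC).1 hy] at he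
      exact hm1 (he ▸ hy)
    · rw [(hact _ hyC).2 hy] at he
      exact h1.mul_notMem hm (he ▸ hx)

theorem z_not_sq (h : Ci4 (P : Subgroup G) z) (hu : Hot (P : Subgroup G) z g u) {c : G}
    (hc : c ∈ Zc (P : Subgroup G)) : c * c ≠ z := fun he => by
  obtain ⟨t, -, ht⟩ := hu.side h
  have hzC := zc_le_cen hu.mem h.zmem
  have hcC := zc_le_cen hu.mem hc
  have h1 : t * z * t⁻¹ = u * z := (ht z hzC).2 (hu.z_notMem h)
  have h2 : t * z * t⁻¹ = t * c * t⁻¹ * (t * c * t⁻¹) := by rw [← he, conj_mul]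
  have h3 : t * c * t⁻¹ * (t * c * t⁻¹) = z := by
    by_cases hcZ : c ∈ cj g (Zc (P : Subgroup G))
    · rw [(ht c hcC).1 hcZ, he]
    · rw [(ht c hcC).2 hcZ]
      calc u * c * (u * c) = u * (c * u) * c := by group
        _ = u * u * (c * c) := by rw [← (mem_zc.1 hc).2 u hu.mem]; group
        _ = z := by rw [hu.sq h, he, one_mul]
  rw [h1, h3] at h2
  exact hu.notMem (by rw [mul_eq_right.1 h2]; exact one_mem _)

end Hot

end Cfsg.Lib.CentreIndexFour
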