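import Cfsg.Agent.Lib.CentreIndexFour.Abelian
import Cfsg.Agent.Lib.GW.Main
import Cfsg.Agent.Lib.CpClosed.Basic
import Cfsg.Agent.S2116

/-!
# Quasisimple groups with a Sylow 2-subgroup whose centre has index four
-/

set_option autoImplicit false
set_option linter.unusedSectionVars false
set_option linter.style.haveILetI false

namespace Cfsg.Lib.CentreIndexFour

open Subgroup
open scoped commutatorElement

variable {G : Type*} [Group G] [Finite G]

theorem ci4_of_center (P : Sylow 2 G) (hna : ¬ IsMulCommutative (P : Subgroup G))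
    (hZ : (center (P : Subgroup G)).index = 4) : ∃ z, Ci4 (P : Subgroup G) z := by
  have hmap : (center (P : Subgroup G)).map (P : Subgroup G).subtype = Zc (P : Subgroup G) := by
    ext x
    constructor
    · rintro ⟨y, hy, rfl⟩
      exact mem_zc.2 ⟨y.2, fun w hw => congrArg Subtype.val (mem_center_iff.1 hy ⟨w, hw⟩)⟩
    · intro hx
      exact ⟨⟨x, hx.1⟩, mem_center_iff.2 fun w => Subtype.ext ((mem_zc.1 hx).2 w w.2), rfl⟩
  refine exists_ci4 P.2 ?_ ?_
  · by_contra! hh
    exact hna ⟨⟨fun a b => Subtype.ext (hh a a.2 b b.2)⟩⟩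
  · rw [← hmap, card_map_of_injective (subtype_injective _), ← hZ, index_mul_card]

/-- In a perfect group the central part of a Sylow 2-subgroup lies in its derived subgroup. -/
theorem central_cases (hp : Group.IsPerfect G) {P : Sylow 2 G} {z : G} (h : Ci4 (P : Subgroup G) z)
    {c : G} (hcP : c ∈ (P : Subgroup G)) (hcZ : c ∈ center G) : c = 1 ∨ c = z := by
  classical
  haveI : Fact (Nat.Prime 2) := ⟨Nat.prime_two⟩
  let φ : (P : Subgroup G) →* Abelianization (P : Subgroup G) := Abelianization.of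
  have h1 : MonoidHom.transfer φ c = 1 :=
    MonoidHom.mem_ker.1 (Abelianization.commutator_subset_ker _ (hp.commutator_eq_top ▸ mem_top c))
  rw [MonoidHom.transfer_eq_pow φ c (fun k g₀ _ => by
    rw [mul_assoc, ← mem_center_iff.1 (pow_mem hcZ k) g₀, inv_mul_cancel_left])] at h1
  set c' : (P : Subgroup G) := ⟨c, hcP⟩
  have h2 : φ c' ^ (P : Subgroup G).index = 1 := by
    rw [← map_pow]; exact h1
  obtain ⟨j, hj⟩ := P.2 c'
  have h3 : φ c' = 1 := by
    refine orderOf_eq_one_iff.1 (Nat.eq_one_of_dvd_coprimes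
      ((Nat.prime_two.coprime_iff_not_dvd.2 P.not_dvd_index).pow_left j)
      (orderOf_dvd_of_pow_eq_one (by rw [← map_pow, hj, map_one])) (orderOf_dvd_of_pow_eq_one h2))
  have h4 : c' ∈ commutator (P : Subgroup G) := (QuotientGroup.eq_one_iff c').1 h3
  have h5 : commutator (P : Subgroup G) ≤ zpowers (⟨z, h.zmemP⟩ : (P : Subgroup G)) := by
    rw [_root_.commutator_def, commutator_le]
    rintro ⟨x, hx⟩ - ⟨y, hy⟩ -
    rcases h.comm x hx y hy with h6 | h6
    · rw [commutatorElement_eq_one_iff_mul_comm.2 (Subtype.ext h6)]; exact one_mem _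
    · have he : ⁅(⟨x, hx⟩ : (P : Subgroup G)), (⟨y, hy⟩ : (P : Subgroup G))⁆ = (⟨z, h.zmemP⟩ : (P : Subgroup G)) := Subtype.ext (by
        show x * y * x⁻¹ * y⁻¹ = z
        rw [h6]; group)
      rw [he]; exact mem_zpowers _
  obtain ⟨i, hi⟩ := mem_zpowers_iff.1 (h5 h4)
  have hi' : z ^ i = c := congrArg Subtype.val hi
  rcases Int.even_or_odd i with ⟨m, rfl⟩ | ⟨m, rfl⟩
  · exact Or.inl (by rw [← hi', zpow_add, ← Commute.mul_zpow (Commute.refl z), h.zsq, one_zpow])
  · exact Or.inr (by rw [← hi', zpow_add_one, zpow_mul, zpow_two, h.zsq, one_zpow, one_mul])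

theorem sylow_shape (hq : Cfsg.IsQuasisimple G) (P : Sylow 2 G)
    (hna : ¬ IsMulCommutative (P : Subgroup G)) (hZ : (center (P : Subgroup G)).index = 4) :
    Nat.card (P : Subgroup G) = 8 ∧ ¬ IsMulCommutative (G ⧸ center G) ∧
      GW.SylowDihedral (G ⧸ center G) := by
  classical
  haveI : Fact (Nat.Prime 2) := ⟨Nat.prime_two⟩
  obtain ⟨hp, hs⟩ := hq
  haveI := hs
  obtain ⟨z, h⟩ := ci4_of_center P hna hZ
  set π := QuotientGroup.mk' (center G) with hπ
  have hπs : Function.Surjective π := QuotientGroup.mk'_surjective _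
  have hker : ∀ x, π x = 1 ↔ x ∈ center G := QuotientGroup.eq_one_iff
  have hSna : ¬ IsMulCommutative (G ⧸ center G) := fun hc => hna ⟨⟨fun a b => Subtype.ext (by
    have hle : commutator G ≤ center G :=
      Normal.quotient_commutative_iff_commutator_le.mp ⟨⟨fun x y => hc.is_comm.comm x y⟩⟩
    exact (mem_center_iff.1 (hle (hp.commutator_eq_top ▸ mem_top (b : G))) a))⟩⟩
  set Q : Sylow 2 (G ⧸ center G) := P.mapSurjective hπs with hQ
  have hQmem : ∀ {y}, y ∈ (Q : Subgroup (G ⧸ center G)) ↔ ∃ x ∈ (P : Subgroup G), π x = y := by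
    intro y; rw [hQ, Sylow.coe_mapSurjective]; exact Iff.rfl
  have hz1 : ∀ x ∈ (P : Subgroup G), π x = 1 → x = 1 ∨ x = z := fun x hx he =>
    central_cases hp h hx ((hker x).1 he)
  by_cases hzc : z ∈ center G
  · -- the image of `P` is abelian
    have hπz : π z = 1 := (hker z).2 hzc
    haveI hQc : IsMulCommutative (Q : Subgroup (G ⧸ center G)) := ⟨⟨fun a b => Subtype.ext (by
      obtain ⟨x, hx, hxa⟩ := hQmem.1 a.2
      obtain ⟨y, hy, hyb⟩ := hQmem.1 b.2
      show (a : G ⧸ center G) * b = b * a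
      rw [← hxa, ← hyb, ← map_mul, ← map_mul]
      rcases h.comm x hx y hy with h6 | h6
      · rw [h6]
      · rw [h6, map_mul π z, hπz, one_mul])⟩⟩
    let W := (Zc (P : Subgroup G)).map π
    have hWQ : W ≤ (Q : Subgroup (G ⧸ center G)) := by
      rw [hQ, Sylow.coe_mapSurjective]; exact map_mono fun x hx => hx.1
    have hinv : ∀ n ∈ normalizer ((Q : Subgroup (G ⧸ center G)) : Set (G ⧸ center G)), ∀ w ∈ W,
        n * w * n⁻¹ ∈ W := by
      intro n hn
      obtain ⟨g, rfl⟩ := hπs n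
      have hle : ((g • P : Sylow 2 G) : Subgroup G) ≤ (P : Subgroup G) ⊔ center G := by
        rintro _ ⟨x, hx, rfl⟩
        show g * x * g⁻¹ ∈ _
        have h1 : π g * π x * (π g)⁻¹ ∈ (Q : Subgroup (G ⧸ center G)) :=
          (mem_normalizer_iff.1 hn _).1 (hQmem.2 ⟨x, hx, rfl⟩)
        obtain ⟨y, hy, hye⟩ := hQmem.1 h1
        have h2 : y⁻¹ * (g * x * g⁻¹) ∈ center G := (hker _).1 (by
          rw [map_mul, map_inv, map_mul, map_mul, map_inv, ← hye, inv_mul_cancel])
        rw [show g * x * g⁻¹ = y * (y⁻¹ * (g * x * g⁻¹)) by group]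
        exact mul_mem (mem_sup_left hy) (mem_sup_right h2)
      obtain ⟨d, hd⟩ := MulAction.exists_smul_eq ↥((P : Subgroup G) ⊔ center G) (P.subtype le_sup_left)
        ((g • P).subtype hle)
      rw [Sylow.smul_subtype] at hd
      have hd' : (d : G) • P = g • P := Sylow.subtype_injective hd
      obtain ⟨p, hpm, c, hc, he⟩ := mem_sup_of_normal_right.1 d.2
      have hgN : c⁻¹ * p⁻¹ * g ∈ normalizer ((P : Subgroup G) : Set G) := by
        rw [← mul_inv_rev, he]
        refine Sylow.smul_eq_iff_mem_normalizer.1 ?_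
        rw [mul_smul, ← hd', inv_smul_smul]
      rintro _ ⟨w, hw, rfl⟩
      refine ⟨g * w * g⁻¹, ?_, by rw [map_mul, map_mul, map_inv]⟩
      have h1 := Ci4.normalizer_zc hgN hw
      have h3 := Ci4.normalizer_zc (le_normalizer hpm) h1
      have h4 : p * (c⁻¹ * p⁻¹ * g * w * (c⁻¹ * p⁻¹ * g)⁻¹) * p⁻¹ = g * w * g⁻¹ := by
        have hcc : ∀ y : G, c⁻¹ * y = y * c⁻¹ := fun y => (mem_center_iff.1 (inv_mem hc) y).symm
        have h5 : c⁻¹ * p⁻¹ * g = p⁻¹ * g * c⁻¹ := by rw [mul_assoc, hcc]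
        calc p * (c⁻¹ * p⁻¹ * g * w * (c⁻¹ * p⁻¹ * g)⁻¹) * p⁻¹
            = p * (p⁻¹ * g * (c⁻¹ * w) * c * g⁻¹ * p) * p⁻¹ := by rw [h5]; group
          _ = g * w * g⁻¹ := by rw [hcc w]; group
      rwa [h4] at h3
    set Z' := Zc (P : Subgroup G)
    have hkP : ∀ H : Subgroup G, H ≤ (P : Subgroup G) → z ∈ H →
        Nat.card H = 2 * Nat.card (H.map π) := by
      intro H hH hzH
      have h1 := card_mul_index (π.subgroupMap H).ker
      rw [index_ker, MonoidHom.range_eq_top_of_surjective _ (MonoidHom.subgroupMap_surjective π H),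
        card_top] at h1
      have h2 : (π.subgroupMap H).ker = zpowers (⟨z, hzH⟩ : H) := by
        ext x
        rw [MonoidHom.mem_ker]
        constructor
        · intro he
          rcases hz1 x (hH x.2) (congrArg Subtype.val he) with h3 | h3
          · rw [show x = 1 from Subtype.ext h3]; exact one_mem _
          · rw [show x = ⟨z, hzH⟩ from Subtype.ext h3]; exact mem_zpowers _
        · rintro ⟨i, rfl⟩
          refine Subtype.ext ?_
          show π ((((⟨z, hzH⟩ : H) ^ i : H) : G)) = 1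
          rw [SubgroupClass.coe_zpow, map_zpow, hπz, one_zpow]
      rw [h2, Nat.card_zpowers, orderOf_mk, Invol.orderOf_eq_two_of h.zne h.zsq] at h1
      exact h1.symm
    have hcP := hkP (P : Subgroup G) le_rfl h.zmemP
    have hcW := hkP Z' inf_le_left h.zmem
    have hQcard : Nat.card (Q : Subgroup (G ⧸ center G)) = Nat.card ((P : Subgroup G).map π) := by
      rw [hQ, Sylow.coe_mapSurjective]
    have hidx : W.relIndex (Q : Subgroup (G ⧸ center G)) = 4 := by
      have h1 := card_mul_index (W.subgroupOf (Q : Subgroup (G ⧸ center G)))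
      rw [Nat.card_congr (subgroupOfEquivOfLe hWQ).toEquiv, hQcard] at h1
      have h2 := h.card
      rw [hcP, hcW] at h2
      have hpos : 0 < Nat.card W := Nat.card_pos
      refine Nat.eq_of_mul_eq_mul_left hpos (h1.trans ?_)
      show Nat.card ((P : Subgroup G).map π) = Nat.card (Z'.map π) * 4
      omega
    have hO : Cfsg.oddCore (G ⧸ center G) = ⊥ := by
      obtain ⟨b, hb⟩ := exists_prime_orderOf_dvd_card' (G := (Q : Subgroup (G ⧸ center G))) 2 (by
        have h1 := index_dvd_card (W.subgroupOf (Q : Subgroup (G ⧸ center G)))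
        exact (show 2 ∣ 4 by norm_num).trans (hidx ▸ h1))
      exact oddCore_eq_bot_of_involution (z := (b : G ⧸ center G)) (by rw [orderOf_coe, hb])
    obtain ⟨h4, hSD⟩ := abelian_case hSna hO Q hinv hidx
    exact ⟨by rw [hcP, ← hQcard, h4], hSna, hSD⟩
  · -- `P` embeds in the central quotient
    have hinj : ∀ x ∈ (P : Subgroup G), π x = 1 → x = 1 := fun x hx he =>
      (hz1 x hx he).resolve_right fun h1 => hzc (h1 ▸ (hker x).1 he)
    have hinj2 : ∀ x ∈ (P : Subgroup G), ∀ y ∈ (P : Subgroup G), π x = π y → x = y := fun x hx y hy he =>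
      inv_mul_eq_one.1 (hinj _ (mul_mem (inv_mem hx) hy) (by rw [map_mul, map_inv, he, inv_mul_cancel]))
    have hcard : ∀ H : Subgroup G, H ≤ (P : Subgroup G) → Nat.card (H.map π) = Nat.card H := fun H hH =>
      (Nat.card_congr (Equiv.ofBijective (π.subgroupMap H) ⟨fun a b he =>
        Subtype.ext (hinj2 a (hH a.2) b (hH b.2) (congrArg Subtype.val he)),
        MonoidHom.subgroupMap_surjective π H⟩)).symm
    have hQe : (Q : Subgroup (G ⧸ center G)) = (P : Subgroup G).map π := by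
      rw [hQ, Sylow.coe_mapSurjective]
    have hZQ : Zc (Q : Subgroup (G ⧸ center G)) = (Zc (P : Subgroup G)).map π := by
      ext y
      rw [mem_zc]
      constructor
      · rintro ⟨hy, hyc⟩
        obtain ⟨x, hx, rfl⟩ := hQmem.1 hy
        refine ⟨x, mem_zc.2 ⟨hx, fun w hw => hinj2 _ (mul_mem hw hx) _ (mul_mem hx hw) ?_⟩, rfl⟩
        rw [map_mul, map_mul]; exact hyc _ (hQmem.2 ⟨w, hw, rfl⟩)
      · rintro ⟨x, hx, rfl⟩
        refine ⟨hQmem.2 ⟨x, hx.1, rfl⟩, fun w hw => ?_⟩
        obtain ⟨v, hv, rfl⟩ := hQmem.1 hw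
        rw [← map_mul, ← map_mul, (mem_zc.1 hx).2 v hv]
    have h' : Ci4 (Q : Subgroup (G ⧸ center G)) (π z) := by
      refine ⟨Q.2, hZQ ▸ ⟨z, h.zmem, rfl⟩, fun he => h.zne (hinj z h.zmemP he),
        by rw [← map_mul, h.zsq, map_one], ?_, ?_, ?_⟩
      · rw [hZQ, hQe, hcard _ le_rfl, hcard (Zc (P : Subgroup G)) (fun x hx => hx.1), h.card]
      · intro y hy
        obtain ⟨x, hx, rfl⟩ := hQmem.1 hy
        rw [hZQ, ← map_mul]; exact ⟨_, h.sq x hx, rfl⟩
      · intro y hy w hw
        obtain ⟨x, hx, rfl⟩ := hQmem.1 hy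
        obtain ⟨v, hv, rfl⟩ := hQmem.1 hw
        rcases h.comm x hx v hv with h6 | h6
        · left; rw [← map_mul, ← map_mul, h6]
        · right; rw [← map_mul, h6, map_mul, map_mul]
    obtain ⟨h8, hSD⟩ := simple_case hSna Q h'
    exact ⟨by rw [← hcard _ le_rfl, ← hQe, h8], hSna, hSD⟩

universe u

/-- Quasisimple groups with a nonabelian Sylow 2-subgroup with centre of index four. -/
theorem main {G : Type u} [Group G] [Finite G] (hq : Cfsg.IsQuasisimple G) (P : Sylow 2 G)
    (hna : ¬ IsMulCommutative (P : Subgroup G)) (hZ : (center (P : Subgroup G)).index = 4) :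
    Nat.card (P : Subgroup G) = 8 ∧
      (Nonempty (G ≃* alternatingGroup (Fin 7)) ∨
       (Nat.card (center G) = 3 ∧ Nonempty (G ⧸ center G ≃* alternatingGroup (Fin 7))) ∨
       ∃ (F : Type) (_ : Field F) (_ : Fintype F), Odd (Fintype.card F) ∧
         Nonempty (G ⧸ center G ≃* Matrix.ProjectiveSpecialLinearGroup (Fin 2) F)) := by
  haveI : Fact (Nat.Prime 2) := ⟨Nat.prime_two⟩
  obtain ⟨h8, hSna, hSD⟩ := sylow_shape hq P hna hZ
  refine ⟨h8, ?_⟩
  haveI := hq.2
  rcases GW.simpleGW (G ⧸ center G) hSna hSD with ⟨F, i, j, hodd, -, e⟩ | he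
  · exact Or.inr (Or.inr ⟨F, i, j, hodd, e⟩)
  obtain ⟨e⟩ := he
  have hcard : Nat.card (G ⧸ center G) = 2520 := by
    rw [Nat.card_congr e.toEquiv, nat_card_alternatingGroup, Nat.card_fin]; rfl
  have h6 : Nat.card (center G) ∣ 6 := by
    have := Cfsg.Lib.CpClosed.card_center_dvd hq.1 e (Cfsg.Agent.S2116.result 7 (Or.inr rfl))
    rwa [Nat.card_congr Multiplicative.toAdd, Nat.card_zmod] at this
  have hG := Subgroup.card_eq_card_quotient_mul_card_subgroup (center G)
  rw [hcard] at hG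
  have hodd : ¬ 2 ∣ Nat.card (center G) := by
    rintro ⟨k, hk⟩
    refine P.not_dvd_index ?_
    have h9 := card_mul_index (P : Subgroup G)
    rw [h8, hG, hk] at h9
    exact ⟨315 * k, by omega⟩
  have h13 : Nat.card (center G) = 1 ∨ Nat.card (center G) = 3 := by
    have hle := Nat.le_of_dvd (by norm_num) h6
    obtain ⟨n, hn⟩ : ∃ n, Nat.card (center G) = n := ⟨_, rfl⟩
    rw [hn] at h6 hodd hle ⊢
    interval_cases n <;> omega
  rcases h13 with h1 | h3
  · exact Or.inl ⟨((QuotientGroup.quotientMulEquivOfEq (card_eq_one.1 h1)).trans QuotientGroup.quotientBot).symm.trans e⟩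
  · exact Or.inr (Or.inl ⟨h3, ⟨e⟩⟩)

end Cfsg.Lib.CentreIndexFour
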