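import Cfsg.Agent.Lib.CentreIndexFour.TwoClosed
import Cfsg.Agent.Lib.Goldschmidt.Product
import Cfsg.Agent.Lib.ZStar.Main
import Cfsg.Agent.Lib.GW.Basic
import Cfsg.Agent.S0111
import Cfsg.Agent.S1011

/-!
# Simple groups with a nonabelian Sylow 2-subgroup whose centre has index four

Such a Sylow subgroup is dihedral of order eight.
-/

set_option autoImplicit false
set_option linter.unusedSectionVars false
set_option linter.style.haveILetI false

namespace Cfsg.Lib.CentreIndexFour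

open Subgroup
open scoped commutatorElement

universe v

variable {G : Type v} [Group G] [Finite G] [IsSimpleGroup G]

theorem center_eq_bot_of_nonabelian (hna : ¬ IsMulCommutative G) : center G = ⊥ :=
  (inferInstance : (center G).Normal).eq_bot_or_eq_top.resolve_right fun h => hna
    ⟨⟨fun a b => mem_center_iff.1 (h ▸ mem_top b : b ∈ center G) a⟩⟩

theorem oddCore_eq_bot_of_involution {z : G} (hz : orderOf z = 2) : Cfsg.oddCore G = ⊥ :=
  (inferInstance : (Cfsg.oddCore G).Normal).eq_bot_or_eq_top.resolve_right fun h =>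
    ZStar.notMem_oddCore hz (h ▸ mem_top z)

/-- In a nonabelian simple group two commuting disjoint strongly closed subgroups are not both
nontrivial. -/
theorem closed_eq_bot (hna : ¬ IsMulCommutative G) (hO : Cfsg.oddCore G = ⊥) (S : Sylow 2 G)
    {S₁ S₂ : Subgroup G} (h1 : Cfsg.IsStronglyClosed S₁ (S : Subgroup G))
    (h2 : Cfsg.IsStronglyClosed S₂ (S : Subgroup G)) (hc : ∀ a ∈ S₁, ∀ b ∈ S₂, a * b = b * a)
    (hd : S₁ ⊓ S₂ = ⊥) (hne : S₁ ≠ ⊥) : S₂ = ⊥ := by
  by_contra h2ne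
  have top : ∀ H : Subgroup G, H ≠ ⊥ → normalClosure (H : Set G) = ⊤ := fun H hH =>
    (normalClosure_normal (s := (H : Set G))).eq_bot_or_eq_top.resolve_left fun h =>
      hH (le_bot_iff.1 (h ▸ le_normalClosure))
  have h3 := Goldschmidt.Product.productHolds G S S₁ S₂ h1 h2 hc hd
  rw [top S₁ hne, top S₂ h2ne, hO, le_bot_iff] at h3
  refine hna ⟨⟨fun a b => commutatorElement_eq_one_iff_mul_comm.1 ?_⟩⟩
  exact mem_bot.1 (h3 ▸ commutator_mem_commutator (mem_top a) (mem_top b))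

variable {z : G}

theorem exists_hot_of_simple (hna : ¬ IsMulCommutative G) {P : Sylow 2 G} (h : Ci4 (P : Subgroup G) z) :
    ∃ g u, Hot (P : Subgroup G) z g u := by
  have hz : orderOf z = 2 := Invol.orderOf_eq_two_of h.zne h.zsq
  by_contra! hno
  have hiso : Cfsg.IsIsolatedInvolution z := Invol.isolated_of_sylow P hz fun g hg => by
    by_contra hne
    obtain ⟨g', hg'⟩ := exists_hot h rfl hg hne
    exact hno g' _ hg'
  have h1 := ZStar.mem_center_of_isolated (oddCore_eq_bot_of_involution hz) hiso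
  rw [center_eq_bot_of_nonabelian hna, mem_bot] at h1
  exact h.zne h1

/-- Cosets of the centre: `u₁`, `u₂` and their product exhaust `P`. -/
theorem exists_word {P : Sylow 2 G} (h : Ci4 (P : Subgroup G) z) {g₁ g₂ u₁ u₂ : G}
    (h1 : Hot (P : Subgroup G) z g₁ u₁) (h2 : Hot (P : Subgroup G) z g₂ u₂)
    (hne : Cen (P : Subgroup G) u₂ ≠ Cen (P : Subgroup G) u₁) {b : G} (hb : b ∈ (P : Subgroup G)) :
    ∃ w ∈ zGen P z, w⁻¹ * b ∈ Zc (P : Subgroup G) := by
  by_cases hbZ : b ∈ Zc (P : Subgroup G)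
  · exact ⟨1, one_mem _, by simpa using hbZ⟩
  by_cases hb1 : b * u₁ = u₁ * b
  · exact ⟨u₁, h1.mem_zGen, (h.cen_cases h1.mem h1.notMem (mem_cen.2 ⟨hb, hb1⟩)).resolve_left hbZ⟩
  by_cases hb2 : b * u₂ = u₂ * b
  · exact ⟨u₂, h2.mem_zGen, (h.cen_cases h2.mem h2.notMem (mem_cen.2 ⟨hb, hb2⟩)).resolve_left hbZ⟩
  exact ⟨u₁ * u₂, mul_mem h1.mem_zGen h2.mem_zGen,
    (h.cen_cases (mul_mem h1.mem h2.mem) (prod_notMem h h1 h2 hne)
      (mem_cen.2 ⟨hb, prod_comm h h1 h2 hne hb hb1 hb2⟩)).resolve_left hbZ⟩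

theorem zc_eq (hna : ¬ IsMulCommutative G) {P : Sylow 2 G} (h : Ci4 (P : Subgroup G) z) :
    ∀ c ∈ Zc (P : Subgroup G), c = 1 ∨ c = z := by
  have hz : orderOf z = 2 := Invol.orderOf_eq_two_of h.zne h.zsq
  have hO := oddCore_eq_bot_of_involution hz
  obtain ⟨g₁, u₁, h1⟩ := exists_hot_of_simple hna h
  -- one of `c`, `z c` lies in a hot conjugate of the centre
  have split : ∀ {g u : G}, Hot (P : Subgroup G) z g u → ∀ c ∈ Zc (P : Subgroup G),
      c ∈ cj g (Zc (P : Subgroup G)) ∨ z * c ∈ cj g (Zc (P : Subgroup G)) := fun {g u} hu c hc => by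
    by_cases hm : c ∈ cj g (Zc (P : Subgroup G))
    · exact Or.inl hm
    · obtain ⟨b, -, hbT, hbZ, he⟩ := h.lift hu.mem hu.notMem hu.le
      have hzA : z ∈ Cen (P : Subgroup G) u := zc_le_cen hu.mem h.zmem
      have hcA : c ∈ Cen (P : Subgroup G) u := zc_le_cen hu.mem hc
      have hzN : z ∉ Zc (cj g (P : Subgroup G)) := by rw [zc_cj]; exact hu.z_notMem h
      rw [he] at hzA hcA
      have hcz : c ∈ Cen (cj g (P : Subgroup G)) z := (h.conj g).cen_eq hbT hbZ hzA hzN ▸ hcA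
      rcases (h.conj g).cen_cases hzA.1 hzN hcz with h3 | h3
      · exact absurd (zc_cj g (P : Subgroup G) ▸ h3) hm
      · rw [h.zinv, zc_cj] at h3
        exact Or.inr h3
  have hR : ∀ {D : Subgroup G}, Cfsg.IsStronglyClosed D (P : Subgroup G) → D ≠ ⊥ →
      (∀ d ∈ D, d ∈ Zc (P : Subgroup G) → d = 1 ∨ d = z) → fusedCore P z = ⊥ := fun {D} hD hne hDZ => by
    refine closed_eq_bot hna hO P hD (fusedCore_closed h) (fun a ha b hb => mul_comm_of_zc hb.1 (hD.1 ha)) ?_ hne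
    refine (eq_bot_iff_forall _).2 fun d hd => ?_
    rcases hDZ d hd.1 hd.2.1 with rfl | rfl
    · rfl
    · exact absurd (hd.2.2 _ _ h1) (h1.z_notMem h)
  have hzne : zGen P z ≠ ⊥ := fun he => h.zne (mem_bot.1 (he ▸ z_mem_zGen h))
  by_cases hall : ∀ g u, Hot (P : Subgroup G) z g u → Cen (P : Subgroup G) u = Cen (P : Subgroup G) u₁
  · obtain ⟨hDZ, hD⟩ := one_case h h1 hall
    have hbot := hR hD hzne hDZ
    have hcase : ∀ c ∈ Zc (P : Subgroup G), c ∈ cj g₁ (Zc (P : Subgroup G)) → c = 1 := fun c hc hcm =>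
      mem_bot.1 (hbot ▸ (⟨hc, fun g u hu => ((h1.pair h hu (hall g u hu)).2 c hc).1 hcm⟩ : c ∈ fusedCore P z))
    intro c hc
    rcases split h1 c hc with h3 | h3
    · exact Or.inl (hcase c hc h3)
    · exact Or.inr ((mul_eq_one_iff_inv_eq.1 (hcase _ (mul_mem h.zmem hc) h3)).symm.trans h.zinv)
  push Not at hall
  obtain ⟨g₂, u₂, h2, hne⟩ := hall
  have hD := two_closed h h1 h2 hne
  have hbot := hR hD hzne (fun d hd => two_zc h h1 h2 hne hd)
  have hcase : ∀ c ∈ Zc (P : Subgroup G), c ∈ cj g₁ (Zc (P : Subgroup G)) →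
      c ∈ cj g₂ (Zc (P : Subgroup G)) → c = 1 := fun c hc hc1 hc2 =>
    mem_bot.1 (hbot ▸ (⟨hc, fun g u hu => by
      rcases hot_cases h h1 h2 hne hu with h3 | h3
      · exact ((h1.pair h hu h3).2 c hc).1 hc1
      · exact ((h2.pair h hu h3).2 c hc).1 hc2⟩ : c ∈ fusedCore P z))
  by_contra! hcon
  obtain ⟨c₀, hc₀, hc₀1, hc₀z⟩ := hcon
  -- an involution `c` of the centre in `g₁ Z g₁⁻¹` outside the dihedral subgroup
  obtain ⟨c, hc, hc1, hcne⟩ : ∃ c, c ∈ Zc (P : Subgroup G) ∧ c ∈ cj g₁ (Zc (P : Subgroup G)) ∧ c ≠ 1 := by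
    rcases split h1 c₀ hc₀ with h3 | h3
    · exact ⟨c₀, hc₀, h3, hc₀1⟩
    · exact ⟨z * c₀, mul_mem h.zmem hc₀, h3, fun he => hc₀z ((mul_eq_one_iff_inv_eq.1 he).symm.trans h.zinv)⟩
  have uniq : ∀ e ∈ Zc (P : Subgroup G), e ∈ cj g₁ (Zc (P : Subgroup G)) → e ≠ 1 → c * e = 1 := by
    intro e he he1 hene
    refine hcase _ (mul_mem hc he) (mul_mem hc1 he1) ?_
    have k : ∀ d ∈ Zc (P : Subgroup G), d ∈ cj g₁ (Zc (P : Subgroup G)) → d ≠ 1 →
        z * d ∈ cj g₂ (Zc (P : Subgroup G)) := fun d hd hd1 hdne =>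
      (split h2 d hd).resolve_left fun hd2 => hdne (hcase d hd hd1 hd2)
    have h4 := mul_mem (k c hc hc1 hcne) (k e he he1 hene)
    rwa [mul_assoc, ← mul_assoc c z e, h.z_comm hc.1, mul_assoc z c e, ← mul_assoc, h.zsq, one_mul] at h4
  have hcc : c * c = 1 := uniq c hc hc1 hcne
  have hZc : ∀ e ∈ Zc (P : Subgroup G), e = 1 ∨ e = z ∨ e = c ∨ e = z * c := fun e he => by
    rcases split h1 e he with h3 | h3
    · by_cases he1 : e = 1
      · exact Or.inl he1
      · exact Or.inr (Or.inr (Or.inl (mul_left_cancel (a := c) (by rw [uniq e he h3 he1, hcc]))))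
    · by_cases he1 : z * e = 1
      · exact Or.inr (Or.inl ((mul_eq_one_iff_inv_eq.1 he1).symm.trans h.zinv))
      · refine Or.inr (Or.inr (Or.inr ?_))
        have h5 : z * e = c := mul_left_cancel (a := c) (by rw [uniq _ (mul_mem h.zmem he) h3 he1, hcc])
        rw [← h5, ← mul_assoc, h.zsq, one_mul]
  have hcD : c ∉ zGen P z := fun hcD => by
    rcases two_zc h h1 h2 hne hcD hc with rfl | rfl
    · exact hcne rfl
    · exact h1.z_notMem h hc1
  have hidx : (zGen P z).relIndex (P : Subgroup G) = 2 := by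
    refine relIndex_eq_two_iff.2 ⟨c, hc.1, fun b hb => ?_⟩
    obtain ⟨w, hw, hwb⟩ := exists_word h h1 h2 hne hb
    have hno : b ∈ zGen P z → b * c ∉ zGen P z := fun hbD hm => hcD ((mul_mem_cancel_left hbD).1 hm)
    have hyes : b ∉ zGen P z → b * c ∈ zGen P z := fun hbD => by
      have he : b = w * (w⁻¹ * b) := by group
      rcases hZc _ hwb with h3 | h3 | h3 | h3 <;> rw [h3] at he
      · exact absurd (by rw [he, mul_one]; exact hw) hbD
      · exact absurd (by rw [he]; exact mul_mem hw (z_mem_zGen h)) hbD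
      · rw [he, mul_assoc, hcc, mul_one]; exact hw
      · rw [he, mul_assoc, mul_assoc, hcc, mul_one]; exact mul_mem hw (z_mem_zGen h)
    by_cases hbD : b ∈ zGen P z
    · exact Or.inr ⟨hbD, hno hbD⟩
    · exact Or.inl ⟨hyes hbD, hbD⟩
  rcases Cfsg.Agent.S0111.result P (zGen P z) zGen_le hidx c (Invol.orderOf_eq_two_of hcne hcc) hc.1 hcD
    with ⟨M, hMn, hMi, hcM⟩ | ⟨g, hg⟩
  · rcases hMn.eq_bot_or_eq_top with rfl | rfl
    · rw [index_bot] at hMi
      haveI : Fact (Nat.Prime 2) := ⟨Nat.prime_two⟩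
      exact hna (by haveI := isCyclic_of_prime_card hMi; infer_instance)
    · exact hcM (mem_top c)
  · have h6 := hD.2 _ hg g⁻¹
    rw [show g⁻¹ * (g * c * g⁻¹) * g⁻¹⁻¹ = c by group] at h6
    exact hcD (h6 hc.1)

/-- A simple group with such a Sylow 2-subgroup has dihedral Sylow 2-subgroups of order eight. -/
theorem simple_case (hna : ¬ IsMulCommutative G) (P : Sylow 2 G) (h : Ci4 (P : Subgroup G) z) :
    Nat.card (P : Subgroup G) = 8 ∧ GW.SylowDihedral G := by
  classical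
  haveI : Fact (Nat.Prime 2) := ⟨Nat.prime_two⟩
  have hz2 : Nat.card (Zc (P : Subgroup G)) = 2 := by
    have hle : Zc (P : Subgroup G) = zpowers z := by
      refine le_antisymm (fun c hc => ?_) (zpowers_le.2 h.zmem)
      rcases zc_eq hna h c hc with rfl | rfl
      · exact one_mem _
      · exact mem_zpowers _
    rw [hle, Nat.card_zpowers, Invol.orderOf_eq_two_of h.zne h.zsq]
  have h8 : Nat.card (P : Subgroup G) = 8 := by rw [h.card, hz2]
  refine ⟨h8, ?_⟩
  obtain ⟨g, u, hu⟩ := exists_hot_of_simple hna h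
  obtain ⟨t, ht, htC⟩ := h.exists_notMem_cen hu.mem hu.notMem
  refine GW.sylowDihedral_of_equiv P (n := 4) (by norm_num) ?_
  refine Cfsg.Agent.S1011.dihedral_of_card_eight h8 (fun hc => htC ?_)
    (z := ⟨z, h.zmemP⟩) (w := ⟨u, hu.mem⟩) ?_ ?_ ?_
  · exact mem_cen.2 ⟨ht, congrArg Subtype.val (hc.is_comm.comm (⟨t, ht⟩ : (P : Subgroup G)) ⟨u, hu.mem⟩)⟩
  · rw [orderOf_mk]; exact Invol.orderOf_eq_two_of h.zne h.zsq
  · rw [orderOf_mk]
    exact Invol.orderOf_eq_two_of (fun he => hu.notMem (he ▸ one_mem _)) (hu.sq h)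
  · intro he
    have he' : z = u := congrArg Subtype.val he
    exact hu.notMem (by rw [← he']; exact h.zmem)

end Cfsg.Lib.CentreIndexFour
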