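import Cfsg.Agent.Lib.CentreIndexFour.Closed

/-!
# Strong closure of the dihedral subgroup generated by two hot classes
-/

set_option autoImplicit false
set_option linter.unusedSectionVars false
set_option linter.style.haveILetI false

namespace Cfsg.Lib.CentreIndexFour

open Subgroup

variable {G : Type*} [Group G] [Finite G] {P : Sylow 2 G} {z : G}
variable {g₁ g₂ u₁ u₂ : G} (h : Ci4 (P : Subgroup G) z) (h1 : Hot (P : Subgroup G) z g₁ u₁)
  (h2 : Hot (P : Subgroup G) z g₂ u₂) (hne : Cen (P : Subgroup G) u₂ ≠ Cen (P : Subgroup G) u₁)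

include h h1 h2 hne

theorem cen_prod_ne {g u : G} (hu : Hot (P : Subgroup G) z g u) :
    Cen (P : Subgroup G) u ≠ Cen (P : Subgroup G) (u₁ * u₂) := fun he => by
  have hs := prod_notMem h h1 h2 hne
  have hsw := swap_mul h h1 h2 hne
  have hcs : ∀ v, v ∈ (P : Subgroup G) → Cen (P : Subgroup G) v = Cen (P : Subgroup G) (u₁ * u₂) →
      v * (u₁ * u₂) = u₁ * u₂ * v := fun v hv hev =>
    ((mem_cen.1 (hev.symm ▸ (mem_cen.2 ⟨mul_mem h1.mem h2.mem, rfl⟩ :
      u₁ * u₂ ∈ Cen (P : Subgroup G) (u₁ * u₂)))).2).symm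
  rcases hot_cases h h1 h2 hne hu with h3 | h3
  · have h4 := hcs u₁ h1.mem (h3.symm.trans he)
    rw [← mul_assoc, h1.sq h, one_mul, mul_assoc, hsw, ← mul_assoc, h.z_comm h1.mem, mul_assoc,
      ← mul_assoc u₁ u₁, h1.sq h, one_mul] at h4
    exact h.zne (mul_eq_right.1 h4.symm)
  · have h4 := hcs u₂ h2.mem (h3.symm.trans he)
    rw [← mul_assoc, hsw, mul_assoc, mul_assoc, h2.sq h, mul_one] at h4
    exact h.zne (mul_eq_right.1 h4)

/-- The elements of order four of `zGen` only fuse among themselves. -/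
theorem prod_closed {g : G} (hg : g * (u₁ * u₂) * g⁻¹ ∈ (P : Subgroup G)) :
    g * (u₁ * u₂) * g⁻¹ = u₁ * u₂ ∨ g * (u₁ * u₂) * g⁻¹ = z * (u₁ * u₂) := by
  haveI : Fact (Nat.Prime 2) := ⟨Nat.prime_two⟩
  set s := u₁ * u₂ with hs
  set x := g * s * g⁻¹ with hxd
  have hsP : s ∈ (P : Subgroup G) := mul_mem h1.mem h2.mem
  have hsZ : s ∉ Zc (P : Subgroup G) := prod_notMem h h1 h2 hne
  have hx2 : x * x = z := by
    have he : x * x = g * z * g⁻¹ := by rw [hxd, conj_mul, prod_sq h h1 h2 hne]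
    rw [he]
    exact h.eq_z_of_conj (he ▸ h.sq x hg)
  have hxZ : x ∉ Zc (P : Subgroup G) := fun hc => h1.z_not_sq h hc hx2
  have out : ∀ {g' v : G}, Hot (P : Subgroup G) z g' v → x * v ≠ v * x := fun {g' v} hv he => by
    have hc : v * x ∈ Zc (P : Subgroup G) := hv.mul_zc h (mem_cen.2 ⟨hg, he⟩) hxZ
    refine hv.z_not_sq h hc ?_
    calc v * x * (v * x) = v * (x * v) * x := by group
      _ = v * v * (x * x) := by rw [he]; group
      _ = z := by rw [hv.sq h, hx2, one_mul]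
  have hxC : x ∈ Cen (P : Subgroup G) s :=
    mem_cen.2 ⟨hg, prod_comm h h1 h2 hne hg (out h1) (out h2)⟩
  have hxcen := h.cen_eq hsP hsZ hxC hxZ
  set A := Cen (P : Subgroup G) s with hA
  -- a 2-subgroup of the centralizer of `x` containing `A` is `A`
  have hmax : ∀ Q : Subgroup G, IsPGroup 2 Q → A ≤ Q → Q ≤ centralizer ({x} : Set G) →
      Nat.card Q ≤ Nat.card A := by
    intro Q hQ hAQ hQC
    obtain ⟨R, hR⟩ := hQ.exists_le_sylow
    obtain ⟨k, rfl⟩ := MulAction.exists_smul_eq G P R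
    by_contra hlt
    have hcA : Nat.card A = 2 * Nat.card (Zc (P : Subgroup G)) := h.card_cen hsP hsZ
    have hc : Nat.card ((k • P : Sylow 2 G) : Subgroup G) = 4 * Nat.card (Zc (P : Subgroup G)) :=
      (card_cj k (P : Subgroup G)).trans h.card
    have hd := card_dvd_of_le hR
    have hd2 := card_dvd_of_le hAQ
    rw [hc] at hd
    rw [hcA] at hd2 hlt
    obtain ⟨m, hm⟩ := hd2
    have hpos : 0 < Nat.card (Zc (P : Subgroup G)) := Nat.card_pos
    have hm2 : m = 2 := by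
      have hle : m ∣ 2 := by
        rw [hm, show 4 * Nat.card (Zc (P : Subgroup G)) = 2 * Nat.card (Zc (P : Subgroup G)) * 2 by ring] at hd
        exact Nat.dvd_of_mul_dvd_mul_left (by omega) hd
      have := Nat.le_of_dvd two_pos hle
      interval_cases m
      · simp at hle
      · omega
      · rfl
    have heq : Q = ((k • P : Sylow 2 G) : Subgroup G) :=
      Subgroup.eq_of_le_of_card_ge hR (by rw [hc, hm, hm2]; omega)
    have hxT : x ∈ cj k (Zc (P : Subgroup G)) := by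
      rw [← zc_cj]
      refine mem_zc.2 ⟨hR (hAQ hxC), fun y hy => ?_⟩
      exact mem_centralizer_singleton_iff.1 (hQC (heq ▸ hy))
    have hlek : Cen (P : Subgroup G) x ≤ cj k (P : Subgroup G) := by
      rw [hxcen]; exact hAQ.trans hR
    by_cases hk : k * z * k⁻¹ = z
    · exact hxZ (h.same hg hxZ hlek hk ▸ hxT)
    · have huA : k * z * k⁻¹ ∈ Cen (P : Subgroup G) x := h.cj_zc_le hg hxZ hlek (mem_cj_self.2 h.zmem)
      have huZ : k * z * k⁻¹ ∉ Zc (P : Subgroup G) := fun hc => hk (h.eq_z_of_conj hc)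
      have hcen := h.cen_eq hg hxZ huA huZ
      exact cen_prod_ne h h1 h2 hne ⟨rfl, huA.1, huZ, hcen ▸ hlek⟩ (hcen.trans hxcen)
  have hAC : A ≤ centralizer ({x} : Set G) := fun y hy =>
    mem_centralizer_singleton_iff.2 (h.cen_comm hsP hsZ hy hxC)
  have hBC : cj g A ≤ centralizer ({x} : Set G) := cj_le.2 fun y hy => by
    rw [mem_centralizer_singleton_iff, hxd]
    calc g * y * g⁻¹ * (g * s * g⁻¹) = g * (y * s) * g⁻¹ := by group
      _ = g * (s * y) * g⁻¹ := by rw [(mem_cen.1 hy).2]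
      _ = _ := by group
  have hAp : IsPGroup 2 A := P.2.to_le inf_le_left
  have hBp : IsPGroup 2 (cj g A : Subgroup G) := hAp.map _
  set C := centralizer ({x} : Set G) with hC
  obtain ⟨S₁, hS₁⟩ := (hAp.comap_subtype (K := C)).exists_le_sylow
  obtain ⟨S₂, hS₂⟩ := (hBp.comap_subtype (K := C)).exists_le_sylow
  obtain ⟨c, hc⟩ := MulAction.exists_smul_eq C S₂ S₁
  have hS₁A : (S₁ : Subgroup C).map C.subtype = A := by
    have hle : A ≤ (S₁ : Subgroup C).map C.subtype := fun y hy => ⟨⟨y, hAC hy⟩, hS₁ hy, rfl⟩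
    exact (Subgroup.eq_of_le_of_card_ge hle (hmax _ (S₁.2.map _) hle (map_subtype_le _))).symm
  set g' := (c : G) * g with hg'
  have hgx : g' * s * g'⁻¹ = x := by
    calc g' * s * g'⁻¹ = (c : G) * x * (c : G)⁻¹ := by rw [hg', hxd]; group
      _ = x * (c : G) * (c : G)⁻¹ := by rw [mem_centralizer_singleton_iff.1 c.2]
      _ = x := by group
  have hgA : ∀ y ∈ A, g' * y * g'⁻¹ ∈ A := fun y hy => by
    have hy2 : g * y * g⁻¹ ∈ cj g A := mem_cj_self.2 hy
    have h3 : c * ⟨g * y * g⁻¹, hBC hy2⟩ * c⁻¹ ∈ (S₁ : Subgroup C) := by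
      rw [← hc]; exact ⟨_, hS₂ hy2, rfl⟩
    rw [← hS₁A]
    exact ⟨_, h3, by simp [hg']; group⟩
  have hgN : g' ∈ normalizer (A : Set G) := Cfsg.Lib.Fusion.le_normalizer_of_conj_mem hgA
  have hAT : A ≤ cj g' (P : Subgroup G) := fun y hy =>
    mem_cj.2 ((mem_normalizer_iff''.1 hgN y).1 hy).1
  have hzfix : g' * z * g'⁻¹ = z := by
    by_contra hk
    have huA : g' * z * g'⁻¹ ∈ A := h.cj_zc_le hsP hsZ hAT (mem_cj_self.2 h.zmem)
    have huZ : g' * z * g'⁻¹ ∉ Zc (P : Subgroup G) := fun hc => hk (h.eq_z_of_conj hc)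
    have hcen := h.cen_eq hsP hsZ huA huZ
    exact cen_prod_ne h h1 h2 hne ⟨rfl, huA.1, huZ, hcen ▸ hAT⟩ hcen
  have hsame := h.same hsP hsZ hAT hzfix
  set D := centralizer (Zc (P : Subgroup G) : Set G) with hD
  have hPD : (P : Subgroup G) ≤ D := fun y hy =>
    mem_centralizer_iff.2 fun c hc => (mul_comm_of_zc hc hy).symm
  have hTD : ((g' • P : Sylow 2 G) : Subgroup G) ≤ D := by
    rintro _ ⟨y, hy, rfl⟩
    refine mem_centralizer_iff.2 fun c hc => ?_
    rw [SetLike.mem_coe, ← hsame, ← zc_cj] at hc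
    exact (mul_comm_of_zc hc (mem_cj_self.2 hy : g' * y * g'⁻¹ ∈ cj g' (P : Subgroup G))).symm
  obtain ⟨w, hw⟩ := MulAction.exists_smul_eq D ((g' • P).subtype hTD) (P.subtype hPD)
  rw [Sylow.smul_subtype] at hw
  have hw' : ((w : G) * g') • P = P := by rw [mul_smul]; exact Sylow.subtype_injective hw
  set n := (w : G) * g' with hn
  have hnN : n ∈ normalizer ((P : Subgroup G) : Set G) := Sylow.smul_eq_iff_mem_normalizer.1 hw'
  -- `n` permutes the hot classes, so fixes `s` up to `z`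
  have hns : n * s * n⁻¹ = s ∨ n * s * n⁻¹ = z * s := by
    have he : n * s * n⁻¹ = n * u₁ * n⁻¹ * (n * u₂ * n⁻¹) := by rw [hs]; group
    have hn1 := hot_values h h1 h2 hne (h1.conj_normalizer h hnN)
    have hn2 := hot_values h h1 h2 hne (h2.conj_normalizer h hnN)
    have hnc : n * u₁ * n⁻¹ * (n * u₂ * n⁻¹) ≠ n * u₂ * n⁻¹ * (n * u₁ * n⁻¹) := fun h3 => by
      rw [conj_mul, conj_mul] at h3
      have h4 : u₁ * u₂ = u₂ * u₁ := mul_left_cancel (mul_right_cancel h3)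
      rw [swap_mul h h1 h2 hne] at h4
      exact h.zne (mul_eq_right.1 h4.symm)
    rw [he]
    have hz1 : ∀ v ∈ (P : Subgroup G), v * z = z * v := fun v hv => h.z_comm hv
    have hl : ∀ v, z * (z * v) = v := fun v => by rw [← mul_assoc, h.zsq, one_mul]
    have hp1 : ∀ v, u₁ * (z * v) = z * (u₁ * v) := fun v => by rw [← mul_assoc, hz1 _ h1.mem, mul_assoc]
    have hp2 : ∀ v, u₂ * (z * v) = z * (u₂ * v) := fun v => by rw [← mul_assoc, hz1 _ h2.mem, mul_assoc]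
    have hsw := swap_mul h h1 h2 hne
    rcases hn1 with e₁ | e₁ | e₁ | e₁ <;> rcases hn2 with e₂ | e₂ | e₂ | e₂ <;>
      rw [e₁, e₂] at hnc ⊢ <;>
      first
        | (simp only [mul_assoc, hl, hp1, hp2, hsw, hs, true_or, or_true]; done)
        | exact absurd (by simp only [mul_assoc, hl, hp1, hp2, h1.sq h, h2.sq h]) hnc
  have hnA : ∀ y ∈ A, n * y * n⁻¹ ∈ A := fun y hy => by
    refine mem_cen.2 ⟨(mem_normalizer_iff.1 hnN y).1 hy.1, ?_⟩
    rcases hns with h3 | h3 <;>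
    · have h4 : n * y * n⁻¹ * (n * s * n⁻¹) = n * s * n⁻¹ * (n * y * n⁻¹) := by
        rw [conj_mul, conj_mul, (mem_cen.1 hy).2]
      rw [h3] at h4
      first
        | exact h4
        | exact mul_left_cancel (a := z) (by
            rw [← mul_assoc, ← h.z_comm ((mem_normalizer_iff.1 hnN y).1 hy.1), mul_assoc, h4, mul_assoc])
  have hwN : (w : G) ∈ normalizer (A : Set G) := by
    rw [show (w : G) = n * g'⁻¹ by rw [hn]; group]
    exact mul_mem (Cfsg.Lib.Fusion.le_normalizer_of_conj_mem hnA) (inv_mem hgN)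
  -- `w` fixes the centre and moves `s` by a central element
  have hwZ : ∀ c ∈ Zc (P : Subgroup G), (w : G) * c * (w : G)⁻¹ = c := fun c hc => by
    rw [← mem_centralizer_iff.1 w.2 c hc, mul_inv_cancel_right]
  have hwx : (w : G) * x * (w : G)⁻¹ = n * s * n⁻¹ := by rw [← hgx, hn]; group
  set c := s⁻¹ * x with hcd
  have hcZ : c ∈ Zc (P : Subgroup G) := (h.cen_cases hsP hsZ hxC).resolve_left hxZ
  obtain ⟨e, he, hns'⟩ : ∃ e, (e = 1 ∨ e = z) ∧ n * s * n⁻¹ = s * e := by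
    rcases hns with h3 | h3
    · exact ⟨1, Or.inl rfl, by rw [mul_one, h3]⟩
    · exact ⟨z, Or.inr rfl, by rw [h.z_comm hsP, h3]⟩
  have heZ : e ∈ Zc (P : Subgroup G) := by
    rcases he with rfl | rfl
    · exact one_mem _
    · exact h.zmem
  set d := e * c⁻¹ with hdd
  have hdZ : d ∈ Zc (P : Subgroup G) := mul_mem heZ (inv_mem hcZ)
  have hws : (w : G) * s * (w : G)⁻¹ = s * d := by
    calc (w : G) * s * (w : G)⁻¹ = (w : G) * x * (w : G)⁻¹ * ((w : G) * c * (w : G)⁻¹)⁻¹ := by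
          rw [hcd]; group
      _ = s * d := by rw [hwx, hwZ c hcZ, hns', hdd, mul_assoc]
  have hwy : ∀ y ∈ A, y ∉ Zc (P : Subgroup G) → (w : G) * y * (w : G)⁻¹ = y * d := fun y hy hyZ => by
    have hc' := (h.cen_cases hsP hsZ hy).resolve_left hyZ
    calc (w : G) * y * (w : G)⁻¹ = (w : G) * s * (w : G)⁻¹ * ((w : G) * (s⁻¹ * y) * (w : G)⁻¹) := by group
      _ = s * (d * (s⁻¹ * y)) := by rw [hws, hwZ _ hc', mul_assoc]
      _ = s * (s⁻¹ * y * d) := by rw [mul_comm_of_zc hc' hdZ.1]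
      _ = y * d := by group
  obtain ⟨t, ht, htC⟩ := h.exists_notMem_cen hsP hsZ
  have hcom : ∀ y ∈ A, (w : G) * (t * y * t⁻¹) * (w : G)⁻¹ = t * ((w : G) * y * (w : G)⁻¹) * t⁻¹ := by
    intro y hy
    by_cases hyZ : y ∈ Zc (P : Subgroup G)
    · rw [mul_comm_of_zc hyZ ht, mul_inv_cancel_right, hwZ y hyZ, mul_comm_of_zc hyZ ht, mul_inv_cancel_right]
    · have hyd : y * d ∈ A := mul_mem hy (zc_le_cen hsP hdZ)
      have hydZ : y * d ∉ Zc (P : Subgroup G) := fun h3 => hyZ ((mul_mem_cancel_right hdZ).1 h3)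
      rw [h.conj_of_not_comm ht hy.1 (h.not_comm hsP hsZ ht htC hy hyZ), hwy y hy hyZ,
        h.conj_of_not_comm ht hyd.1 (h.not_comm hsP hsZ ht htC hyd hydZ),
        hwy (z * y) (mul_mem (zc_le_cen hsP h.zmem) hy) (fun h3 => hyZ ((mul_mem_cancel_left h.zmem).1 h3)),
        mul_assoc]
  obtain ⟨k, hk⟩ := P.2 ⟨d, hdZ.1⟩
  have hk' : d ^ 2 ^ k = 1 := congrArg Subtype.val hk
  have hiter : ∀ m : ℕ, (∀ c ∈ Zc (P : Subgroup G), (w : G) ^ m * c * ((w : G) ^ m)⁻¹ = c) ∧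
      ∀ y ∈ A, y ∉ Zc (P : Subgroup G) → (w : G) ^ m * y * ((w : G) ^ m)⁻¹ = y * d ^ m := by
    intro m
    induction m with
    | zero => exact ⟨fun c _ => by simp, fun y _ _ => by simp⟩
    | succ m ih =>
      refine ⟨fun c hc => ?_, fun y hy hyZ => ?_⟩
      · calc (w : G) ^ (m + 1) * c * ((w : G) ^ (m + 1))⁻¹
            = (w : G) ^ m * ((w : G) * c * (w : G)⁻¹) * ((w : G) ^ m)⁻¹ := by rw [pow_succ]; group
          _ = c := by rw [hwZ c hc, ih.1 c hc]
      · calc (w : G) ^ (m + 1) * y * ((w : G) ^ (m + 1))⁻¹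
            = (w : G) ^ m * ((w : G) * y * (w : G)⁻¹) * ((w : G) ^ m)⁻¹ := by rw [pow_succ]; group
          _ = (w : G) ^ m * y * ((w : G) ^ m)⁻¹ * ((w : G) ^ m * d * ((w : G) ^ m)⁻¹) := by
            rw [hwy y hy hyZ]; group
          _ = y * d ^ (m + 1) := by rw [ih.2 y hy hyZ, ih.1 d hdZ, pow_succ, mul_assoc]
  have hkA : ∀ y ∈ A, (w : G) ^ 2 ^ k * y * ((w : G) ^ 2 ^ k)⁻¹ = y := fun y hy => by
    by_cases hyZ : y ∈ Zc (P : Subgroup G)
    · exact (hiter _).1 y hyZ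
    · rw [(hiter _).2 y hy hyZ, hk', mul_one]
  have hsA : s ∈ A := mem_cen.2 ⟨hsP, rfl⟩
  have hfin : d = 1 ∨ d = z := by
    rcases h.key hsP hsZ ht htC hwN hkA hcom with h3 | h3
    · exact Or.inl (mul_eq_left.1 (hws.symm.trans (h3 s hsA)))
    · have h4 := hws.symm.trans (h3 s hsA)
      rw [h.conj_of_not_comm ht hsP (h.not_comm hsP hsZ ht htC hsA hsZ), ← h.z_comm hsP] at h4
      exact Or.inr (mul_left_cancel h4)
  have hxs : x = s * c := by rw [hcd, mul_inv_cancel_left]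
  have hc2 : c = d⁻¹ * e := by
    rw [hdd, mul_inv_rev, inv_inv, mul_assoc, inv_mul_cancel, mul_one]
  rcases he with rfl | rfl <;> rcases hfin with h3 | h3 <;> rw [hxs, hc2, h3]
  · simp
  · right; rw [mul_one, h.zinv, h.z_comm hsP]
  · right; rw [inv_one, one_mul, h.z_comm hsP]
  · left; rw [inv_mul_cancel, mul_one]

theorem two_closed : Cfsg.IsStronglyClosed (zGen P z) (P : Subgroup G) := by
  refine ⟨zGen_le, fun d hd g hg => ?_⟩
  obtain ⟨t₁, ht₁, -⟩ := h1.partner h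
  obtain ⟨t₂, ht₂, -⟩ := h2.partner h
  have gen : ∀ k : G, k * z * k⁻¹ = d → g * d * g⁻¹ ∈ zGen P z := fun k hk =>
    subset_closure ⟨hg, g * k, by rw [← hk]; group⟩
  have hsmem : u₁ * u₂ ∈ zGen P z := mul_mem h1.mem_zGen h2.mem_zGen
  have prod : ∀ k : G, k * (u₁ * u₂) * k⁻¹ ∈ (P : Subgroup G) → k * (u₁ * u₂) * k⁻¹ ∈ zGen P z := by
    intro k hk
    rcases prod_closed h h1 h2 hne hk with h3 | h3 <;> rw [h3]
    · exact hsmem
    · exact mul_mem (z_mem_zGen h) hsmem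
  obtain ⟨w, rfl | rfl | rfl | rfl, rfl | rfl⟩ := two_mem h h1 h2 hne hd
  · simp
  · exact gen 1 (by group)
  · exact gen g₁ h1.eq
  · exact gen t₁ ht₁.eq
  · exact gen g₂ h2.eq
  · exact gen t₂ ht₂.eq
  · exact prod g hg
  · have he : g * (z * (u₁ * u₂)) * g⁻¹ = g * u₂ * (u₁ * u₂) * (g * u₂)⁻¹ := by
      rw [← swap_mul h h1 h2 hne]
      calc g * (u₂ * u₁) * g⁻¹ = g * u₂ * (u₁ * u₂) * (g * u₂)⁻¹ := by group
        _ = _ := rfl
    rw [he] at hg ⊢
    exact prod _ hg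

end Cfsg.Lib.CentreIndexFour
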